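import Mathlib
import Cfsg.Agent.Lib.Grp.Hall
import Cfsg.Agent.Lib.Transfer.TypeP
import Cfsg.Agent.Lib.Invol.Sylow
import Cfsg.Agent.Lib.Invol.StronglyEmbedded
import Cfsg.Agent.S0205

/-!
# Groups whose subgroups of order prime to `p` are nilpotent: reduction to a simple group
-/

set_option autoImplicit false
set_option linter.unusedSectionVars false
set_option linter.style.haveILetI false

namespace Cfsg.Agent.Block.PNilHall

open Subgroup

universe u v

variable {G : Type u} [Group G]

/-- All subgroups of order prime to `p` are nilpotent. -/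
def NilP (p : ℕ) (G : Type u) [Group G] : Prop :=
  ∀ H : Subgroup G, (Nat.card ↥H).Coprime p → Group.IsNilpotent ↥H

theorem NilP.subgroup {p : ℕ} (h : NilP p G) (X : Subgroup G) : NilP p X := fun K hK => by
  haveI := h (K.map X.subtype) (by rwa [Subgroup.card_map_of_injective X.subtype_injective])
  exact Group.nilpotent_of_mulEquiv (Subgroup.equivMapOfInjective K X.subtype X.subtype_injective).symm

variable [Finite G]

/-- A subgroup of order prime to `p` whose index in the whole group is a power of `p`. -/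
theorem exists_hallPrime {p : ℕ} (hp : p.Prime) [Group.IsSolvable G] :
    ∃ (L : Subgroup G) (k : ℕ), (Nat.card L).Coprime p ∧ L.index = p ^ k ∧
      Nat.card G = Nat.card L * p ^ k := by
  set k := (Nat.card G).factorization p
  have hd : p ^ k ∣ Nat.card G := Nat.ordProj_dvd _ _
  have hco : (Nat.card G / p ^ k).Coprime (p ^ k) :=
    Nat.Coprime.pow_right _ (Nat.coprime_ordCompl hp Nat.card_pos.ne').symm
  have heq : Nat.card G = Nat.card G / p ^ k * p ^ k := (Nat.div_mul_cancel hd).symm
  obtain ⟨L, hL⟩ := Grp.exists_hall heq hco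
  refine ⟨L, k, ?_, ?_, by rw [hL]; exact heq⟩
  · rw [hL]; exact (Nat.coprime_ordCompl hp Nat.card_pos.ne').symm
  · exact Nat.eq_of_mul_eq_mul_left Nat.card_pos (L.card_mul_index.trans (by rw [hL]; exact heq))

/-- In a solvable group, the images of order prime to `p` are nilpotent. -/
theorem nilpotent_of_surjective {p : ℕ} (hp : p.Prime) [Group.IsSolvable G] (h : NilP p G)
    {Q : Type v} [Group Q] (f : G →* Q) (hf : Function.Surjective f) (hQ : (Nat.card Q).Coprime p) :
    Group.IsNilpotent Q := by
  obtain ⟨L, k, hLc, hLi, -⟩ := exists_hallPrime (G := G) hp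
  haveI : Finite Q := Finite.of_surjective f hf
  have htop : L.map f = ⊤ := by
    rw [← Subgroup.index_eq_one]
    have h1 : (L.map f).index ∣ p ^ k := hLi ▸ L.index_map_dvd hf
    have h2 : (L.map f).index ∣ Nat.card Q := (L.map f).index_dvd_card
    exact Nat.eq_one_of_dvd_coprimes (Nat.Coprime.pow_right k hQ) h2 h1
  haveI := h L hLc
  refine Group.nilpotent_of_surjective (f.comp L.subtype) fun q => ?_
  obtain ⟨x, hx, rfl⟩ : q ∈ L.map f := by rw [htop]; exact Subgroup.mem_top q
  exact ⟨⟨x, hx⟩, rfl⟩

/-- The hypotheses on a minimal counterexample. -/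
structure Hyp (p : ℕ) (G : Type u) [Group G] : Prop where
  prime : p.Prime
  three : 3 < p
  nilp : NilP p G
  simple : IsSimpleGroup G
  solv : ∀ X : Subgroup G, X ≠ ⊤ → Group.IsSolvable X
  nsolv : ¬ Group.IsSolvable G

namespace Hyp

variable {p : ℕ}

theorem two_ne (hG : Hyp p G) : p ≠ 2 := by have := hG.three; omega

theorem not_comm (hG : Hyp p G) : ¬ IsMulCommutative G := fun h =>
  hG.nsolv (Group.isSolvable_of_comm h.is_comm.comm)

theorem center_eq_bot (hG : Hyp p G) : center G = ⊥ :=
  haveI := hG.simple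
  (IsSimpleGroup.eq_bot_or_eq_top_of_normal (center G) inferInstance).resolve_right fun e =>
    hG.not_comm ⟨⟨fun a b => mem_center_iff.mp (e ▸ mem_top b) a⟩⟩

theorem centralizer_ne_top (hG : Hyp p G) {x : G} (hx : x ≠ 1) :
    centralizer ({x} : Set G) ≠ ⊤ := by
  intro e
  refine hx ?_
  have : x ∈ center G := mem_center_iff.2 fun g =>
    mem_centralizer_singleton_iff.1 (e ▸ mem_top g : g ∈ centralizer ({x} : Set G))
  rwa [hG.center_eq_bot, mem_bot] at this

theorem normalizer_ne_top (hG : Hyp p G) {X : Subgroup G} (h1 : X ≠ ⊥) (h2 : X ≠ ⊤) :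
    normalizer (X : Set G) ≠ ⊤ := fun e =>
  haveI := hG.simple
  (IsSimpleGroup.eq_bot_or_eq_top_of_normal X (normalizer_eq_top_iff.1 e)).elim h1 h2

theorem ne_top_of_solvable (hG : Hyp p G) {X : Subgroup G} (h : Group.IsSolvable X) : X ≠ ⊤ := by
  rintro rfl
  exact hG.nsolv (Group.isSolvable_of_surjective (f := (Subgroup.topEquiv (G := G)).toMonoidHom)
    (Subgroup.topEquiv (G := G)).surjective)

theorem ne_top_of_isPGroup (hG : Hyp p G) {q : ℕ} [Fact q.Prime] {X : Subgroup G}
    (h : IsPGroup q X) : X ≠ ⊤ :=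
  hG.ne_top_of_solvable (by haveI := h.isNilpotent; infer_instance)

theorem even_card (hG : Hyp p G) : Even (Nat.card G) := by
  rw [← Nat.not_odd_iff_even]
  exact fun h => hG.nsolv (Cfsg.Agent.S0205.result h)

/-- Commuting from nilpotency: elements of coprime orders in a common subgroup of order prime to `p`. -/
theorem commute_of_normalizes (hG : Hyp p G) {A : Subgroup G} (hA : (Nat.card A).Coprime p) {y : G}
    (hyA : y ∈ normalizer (A : Set G)) (hy : (orderOf y).Coprime p) {a : G} (ha : a ∈ A)
    (hc : (orderOf a).Coprime (orderOf y)) : Commute a y := by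
  have hle : zpowers y ≤ normalizer (A : Set G) := zpowers_le.2 hyA
  have hcard : (Nat.card ↥(zpowers y ⊔ A : Subgroup G)).Coprime p := by
    have hd : Nat.card ↥(zpowers y ⊔ A : Subgroup G) ∣ Nat.card (zpowers y) * Nat.card A :=
      Grp.card_sup_dvd_mul hle
    refine Nat.Coprime.coprime_dvd_left hd (Nat.Coprime.mul_left ?_ hA)
    rwa [Nat.card_zpowers]
  exact Transfer.TypeP.commute_of_coprime_orderOf (hG.nilp _ hcard) (mem_sup_right ha)
    (mem_sup_left (mem_zpowers y)) hc

/-- No involution inverts a nontrivial element of odd order prime to `p`. -/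
theorem eq_one_of_inverted (hG : Hyp p G) {u y : G} (hu : orderOf u = 2)
    (hinv : u * y * u⁻¹ = y⁻¹) (hy : (orderOf y).Coprime p) (hodd : Odd (orderOf y)) : y = 1 := by
  have hmem : u ∈ normalizer ((zpowers y : Subgroup G) : Set G) := by
    refine mem_normalizer_iff.2 fun n => ⟨?_, ?_⟩
    · rintro ⟨k, rfl⟩
      refine ⟨-k, ?_⟩
      simp only [zpow_neg, ← conj_zpow, hinv, inv_zpow]
    · rintro ⟨k, hk⟩
      refine ⟨-k, ?_⟩
      have h1 : u⁻¹ * y * u = y⁻¹ := by
        calc u⁻¹ * y * u = u * y * u⁻¹ := by rw [Invol.inv_of_orderOf_two hu]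
          _ = y⁻¹ := hinv
      have h2 : n = u⁻¹ * y ^ k * u := by rw [show y ^ k = u * n * u⁻¹ from hk]; group
      have h3 : (u⁻¹ * y * u) ^ k = u⁻¹ * y ^ k * u := by
        simpa using conj_zpow (a := u⁻¹) (b := y) (i := k)
      simp only [h2, ← h3, h1, inv_zpow, zpow_neg]
  have hA : (Nat.card (zpowers y)).Coprime p := by rwa [Nat.card_zpowers]
  have hc := hG.commute_of_normalizes hA hmem
    (by rw [hu]; exact (Nat.coprime_primes Nat.prime_two hG.prime).2 hG.two_ne.symm)
    (mem_zpowers y) (by rw [hu]; exact Nat.coprime_two_right.2 hodd)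
  have h2 : y * y = 1 := by
    have : u * y * u⁻¹ = y := by rw [← hc.eq, mul_inv_cancel_right]
    exact mul_eq_one_iff_eq_inv.2 (this.symm.trans hinv)
  have hd : orderOf y ∣ 2 := orderOf_dvd_of_pow_eq_one (by rw [pow_two, h2])
  rcases (Nat.dvd_prime Nat.prime_two).1 hd with h | h
  · exact orderOf_eq_one_iff.1 h
  · rw [h] at hodd
    exact absurd hodd (by decide)

end Hyp

/-- A minimal counterexample is simple with solvable proper subgroups. -/
theorem isSolvable_of_nilP (p : ℕ) (hp : p.Prime)
    (hsimple : ∀ (X : Type u) [Group X] [Finite X], Hyp p X → False) (hp3 : 3 < p) :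
    ∀ (n : ℕ) (X : Type u) [Group X] [Finite X], Nat.card X = n → NilP p X → Group.IsSolvable X := by
  intro n
  induction n using Nat.strong_induction_on with
  | _ n ih =>
    intro X _ _ hn h
    subst hn
    by_contra hns
    haveI : Fact p.Prime := ⟨hp⟩
    have hsolv : ∀ K : Subgroup X, K ≠ ⊤ → Group.IsSolvable K := fun K hK => by
      refine ih _ ?_ K rfl (h.subgroup K)
      exact (K.card_le_card_group).lt_of_ne fun e => hK (K.eq_top_of_card_eq e)
    haveI : Nontrivial X := not_subsingleton_iff_nontrivial.1 fun hs =>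
      hns (Group.isSolvable_of_comm fun a b => Subsingleton.elim _ _)
    refine hsimple X ⟨hp, hp3, h, ?_, hsolv, hns⟩
    refine { eq_bot_or_eq_top_of_normal := fun N hN => ?_ }
    by_contra hc
    push Not at hc
    haveI := hN
    haveI := hsolv N hc.2
    refine hns (Group.isSolvable_of_ker_le_range N.subtype (QuotientGroup.mk' N) (by
      rw [QuotientGroup.ker_mk', Subgroup.range_subtype]) (hG'' := ?_))
    by_cases hd : p ∣ Nat.card (X ⧸ N)
    · refine ih _ ?_ (X ⧸ N) rfl fun Y hY => ?_
      · have h1 : 1 < Nat.card N := N.one_lt_card_iff_ne_bot.2 hc.1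
        have h2 : 0 < Nat.card (X ⧸ N) := Nat.card_pos
        rw [N.card_eq_card_quotient_mul_card_subgroup]
        exact lt_mul_of_one_lt_right h2 h1
      set K := Y.comap (QuotientGroup.mk' N) with hK
      have hKne : K ≠ ⊤ := by
        intro e
        have : Y = ⊤ := by
          rw [← Subgroup.map_comap_eq_self_of_surjective (QuotientGroup.mk'_surjective N) Y, ← hK, e,
            Subgroup.map_top_of_surjective _ (QuotientGroup.mk'_surjective N)]
        rw [this, Subgroup.card_top] at hY
        exact hp.coprime_iff_not_dvd.1 hY.symm hd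
      haveI := hsolv K hKne
      refine nilpotent_of_surjective hp (h.subgroup K)
        (((QuotientGroup.mk' N).comp K.subtype).codRestrict Y fun x => x.2) ?_ hY
      rintro ⟨y, hy⟩
      obtain ⟨x, rfl⟩ := QuotientGroup.mk'_surjective N y
      exact ⟨⟨x, hy⟩, rfl⟩
    · obtain ⟨P⟩ : Nonempty (Sylow p X) := Sylow.nonempty
      set f := QuotientGroup.mk' N
      have hPN : (P : Subgroup X) ≤ N := by
        intro x hx
        obtain ⟨k, hk⟩ := P.isPGroup' ⟨x, hx⟩
        have hk' : x ^ p ^ k = 1 := congrArg Subtype.val hk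
        have h1 : orderOf (f x) ∣ p ^ k := (orderOf_map_dvd f x).trans (orderOf_dvd_of_pow_eq_one hk')
        have h2 : orderOf (f x) = 1 := Nat.eq_one_of_dvd_coprimes
          (Nat.Coprime.pow_right k (hp.coprime_iff_not_dvd.2 hd).symm) (orderOf_dvd_natCard (f x)) h1
        exact (QuotientGroup.eq_one_iff x).1 (orderOf_eq_one_iff.1 h2)
      obtain ⟨Q, hQ⟩ : ∃ Q : Sylow p N, (Q : Subgroup N) = (P : Subgroup X).subgroupOf N :=
        ⟨P.subtype hPN, rfl⟩
      have hmap : (Q : Subgroup N).map N.subtype = P := by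
        rw [hQ, Subgroup.map_subgroupOf_eq_of_le hPN]
      have hfr := Sylow.normalizer_sup_eq_top Q
      rw [hmap] at hfr
      set M := normalizer ((P : Subgroup X) : Set X)
      have hsurj : Function.Surjective (f.comp M.subtype) := by
        intro q
        obtain ⟨x, rfl⟩ := QuotientGroup.mk'_surjective N q
        have hx : x ∈ ((M ⊔ N : Subgroup X) : Set X) := by rw [hfr]; exact mem_top x
        rw [Subgroup.mul_normal] at hx
        obtain ⟨m, hm, k, hk, rfl⟩ := hx
        refine ⟨⟨m, hm⟩, ?_⟩
        show f m = f (m * k)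
        rw [map_mul, show f k = 1 from (QuotientGroup.eq_one_iff k).2 hk, mul_one]
      by_cases hM : M = ⊤
      · -- the Sylow subgroup is normal
        haveI : (P : Subgroup X).Normal := Subgroup.normalizer_eq_top_iff.1 hM
        have hco : (Nat.card P).Coprime (P : Subgroup X).index := P.card_coprime_index
        obtain ⟨K, hK⟩ := Subgroup.exists_right_complement'_of_coprime hco
        haveI : Group.IsNilpotent K := h K (by
          rw [← hK.symm.index_eq_card]
          exact (hp.coprime_iff_not_dvd.2 P.not_dvd_index).symm)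
        refine Group.isSolvable_of_surjective (f := f.comp K.subtype) fun q => ?_
        obtain ⟨x, rfl⟩ := QuotientGroup.mk'_surjective N q
        obtain ⟨⟨⟨a, ha⟩, ⟨b, hb⟩⟩, rfl⟩ := hK.2 x
        refine ⟨⟨b, hb⟩, ?_⟩
        show f b = f (a * b)
        rw [map_mul, show f a = 1 from (QuotientGroup.eq_one_iff a).2 (hPN ha), one_mul]
      · haveI := hsolv M hM
        exact Group.isSolvable_of_surjective hsurj

end Cfsg.Agent.Block.PNilHall
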