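import Cfsg.Agent.Lib.Block.PNilHall.Local
import Cfsg.Agent.Lib.Invol.StronglyEmbeddedCount
import Cfsg.Agent.Lib.Grp.Signalizer
import Cfsg.Agent.Lib.Grp.Coprime

/-!
# Strongly embedded subgroups: solvable overgroups of four groups, and a product of two involutions
without fixed points
-/

set_option autoImplicit false
set_option linter.unusedSectionVars false
set_option linter.style.haveILetI false

namespace Cfsg.Agent.Block.PNilHall

open Subgroup Cfsg.Agent.Grp

universe u

variable {G : Type u} [Group G] [Finite G] {H : Subgroup G}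

theorem mem_of_conj (hH : Cfsg.IsStronglyEmbedded H) {t g : G} (ht : t ∈ H) (ht2 : orderOf t = 2)
    (hg : g * t * g⁻¹ ∈ H) : g ∈ H := by
  have := (Invol.isStronglyEmbedded_iff hH.1 hH.2.1).1 hH t ht ht2 g⁻¹ (by simpa using hg)
  simpa using inv_mem this

theorem mem_of_commute (hH : Cfsg.IsStronglyEmbedded H) {t x : G} (ht : t ∈ H) (ht2 : orderOf t = 2)
    (hx : Commute x t) : x ∈ H :=
  mem_of_conj hH ht ht2 (by rwa [hx.eq, mul_inv_cancel_right])

theorem exists_involution {q : ℕ} [Fact q.Prime] {R : Subgroup G} (hR : IsPGroup q R) (hR1 : R ≠ ⊥) :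
    ∃ z ∈ R, orderOf z = q ∧ ∀ r ∈ R, Commute r z := by
  haveI : Nontrivial R := R.nontrivial_iff_ne_bot.2 hR1
  haveI := hR.center_nontrivial
  obtain ⟨w, hw⟩ := exists_prime_orderOf_dvd_card' (G := center R) q (by
    obtain ⟨n, hn0, hn⟩ := (hR.to_subgroup (center R)).nontrivial_iff_card.1 inferInstance
    rw [hn]; exact dvd_pow_self q hn0.ne')
  exact ⟨((w : R) : G), (w : R).2, by rw [orderOf_coe, orderOf_coe, hw],
    fun r hr => congrArg Subtype.val (mem_center_iff.1 w.2 ⟨r, hr⟩)⟩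

theorem twoGroup_le (hH : Cfsg.IsStronglyEmbedded H) {R : Subgroup G} (hR : IsPGroup 2 R) {b : G}
    (hbR : b ∈ R) (hbH : b ∈ H) (hb : orderOf b = 2) : R ≤ H := by
  haveI : Fact (Nat.Prime 2) := ⟨Nat.prime_two⟩
  obtain ⟨z, -, hz, hzc⟩ := exists_involution hR fun e => Invol.ne_one_of_orderOf_two hb (by
    rwa [e, mem_bot] at hbR)
  have hzH : z ∈ H := mem_of_commute hH hbH hb (hzc b hbR).symm
  exact fun r hr => mem_of_commute hH hzH hz (hzc r hr)

theorem normalizer_le (hH : Cfsg.IsStronglyEmbedded H) {T : Subgroup G} (hT : IsPGroup 2 T)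
    (hT1 : T ≠ ⊥) (hTH : T ≤ H) : normalizer (T : Set G) ≤ H := by
  haveI : Fact (Nat.Prime 2) := ⟨Nat.prime_two⟩
  obtain ⟨t, ht, ht2, -⟩ := exists_involution hT hT1
  exact fun x hx => mem_of_conj hH (hTH ht) ht2 (hTH ((mem_normalizer_iff.1 hx t).1 ht))

/-- A solvable subgroup containing a four group of `H` lies in `H`. -/
theorem le_of_four (hH : Cfsg.IsStronglyEmbedded H) (X : Subgroup G) [Group.IsSolvable X]
    {B : Subgroup G} (hB : Cfsg.IsElementaryAbelian 2 B) (h4 : 4 ≤ Nat.card B) (hBX : B ≤ X)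
    (hBH : B ≤ H) : X ≤ H := by
  haveI : Fact (Nat.Prime 2) := ⟨Nat.prime_two⟩
  have hBne : B ≠ ⊥ := fun e => by rw [e, Subgroup.card_bot] at h4; omega
  have hBp : IsPGroup 2 B := fun b => ⟨1, Subtype.ext (hB.2 b b.2)⟩
  obtain ⟨R, hR⟩ := (hBp.of_equiv (subgroupOfEquivOfLe hBX).symm).exists_le_sylow
  obtain ⟨b, hbB, hb2, -⟩ := exists_involution hBp hBne
  have hRH : (R : Subgroup X).map X.subtype ≤ H :=
    twoGroup_le hH (R.2.map _) ⟨⟨b, hBX hbB⟩, hR hbB, rfl⟩ (hBH hbB) hb2
  have hXtop : (⊤ : Subgroup X).map X.subtype = X := by rw [← MonoidHom.range_eq_map, range_subtype]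
  by_cases hO : Cfsg.pCore 2 X = ⊥
  · set K := Cfsg.pPrimeCore 2 X with hK
    haveI : K.Normal := Grp.pPrimeCore_isNormal
    have hKH : K.map X.subtype ≤ H := by
      refine Grp.le_of_hyperplanes hB hBne _ ?_ ?_ fun D hDB hD => ?_
      · rw [Subgroup.card_map_of_injective X.subtype_injective]
        exact Grp.pPrimeCore_not_dvd
      · exact hBX.trans (hXtop.ge.trans
          (le_trans (map_mono (normalizer_eq_top (H := K)).ge) (le_normalizer_map _)))
      · have hD1 : D ≠ ⊥ := Grp.ne_bot_of_relIndex (B := B) (by omega) hD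
        obtain ⟨d, hd, hd2, -⟩ := exists_involution (hBp.to_le hDB) hD1
        exact fun x hx => mem_of_commute hH (hBH (hDB hd)) hd2
          (mem_centralizer_iff.1 hx.2 d hd).symm
    set f := QuotientGroup.mk' K with hf
    set T : Subgroup X := (R : Subgroup X) ⊓ (Cfsg.pCore 2 (X ⧸ K)).comap f with hT
    haveI : ((Cfsg.pCore 2 (X ⧸ K)).comap f).Normal := Grp.pCore_isNormal.comap f
    have hMT : (Cfsg.pCore 2 (X ⧸ K)).comap f ≤ T ⊔ K := by
      intro m hm
      have hle : Cfsg.pCore 2 (X ⧸ K) ≤ (R : Subgroup X).map f :=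
        Grp.pCore_le_sylow (R.mapSurjective (QuotientGroup.mk'_surjective K))
      have h1 : f m ∈ (R : Subgroup X).map f := hle (mem_comap.1 hm)
      obtain ⟨r, hr, hrm⟩ := h1
      have hk : r⁻¹ * m ∈ K := by
        rw [← QuotientGroup.eq_one_iff]
        show f (r⁻¹ * m) = 1
        rw [map_mul, map_inv, hrm, inv_mul_cancel]
      have hrT : r ∈ T := ⟨hr, show f r ∈ Cfsg.pCore 2 (X ⧸ K) by rw [hrm]; exact hm⟩
      rw [show m = r * (r⁻¹ * m) by group]
      exact mul_mem (mem_sup_left hrT) (mem_sup_right hk)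
    have hT1 : T ≠ ⊥ := by
      intro e
      rw [e, bot_sup_eq] at hMT
      have h1 : Cfsg.pCore 2 (X ⧸ K) = ⊥ := by
        rw [← Subgroup.map_comap_eq_self_of_surjective (QuotientGroup.mk'_surjective K)
          (Cfsg.pCore 2 (X ⧸ K)), eq_bot_iff]
        refine (map_mono hMT).trans ?_
        rw [QuotientGroup.map_mk'_self]
      have h2 := Grp.centralizer_pCore_le (G := X ⧸ K) (p := 2)
        Block.PPartDerived.pPrimeCore_quotient_eq_bot
      rw [h1] at h2
      have h3 : (⟨b, hBX hbB⟩ : X) ∈ K := by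
        rw [← QuotientGroup.eq_one_iff]
        exact mem_bot.1 (h2 (mem_centralizer_iff.2 fun x hx => by
          rw [SetLike.mem_coe, mem_bot] at hx
          simp [hx]))
      refine Grp.pPrimeCore_not_dvd (p := 2) (G := X) ?_
      have h4 := orderOf_dvd_natCard (⟨⟨b, hBX hbB⟩, h3⟩ : K)
      rwa [Subgroup.orderOf_mk, Subgroup.orderOf_mk, hb2] at h4
    have hTH : T.map X.subtype ≤ H := (map_mono inf_le_left).trans hRH
    have htop : normalizer (T : Set X) ⊔ K = ⊤ := by
      refine top_le_iff.1 ((Block.SFour.frattini_inf R ((Cfsg.pCore 2 (X ⧸ K)).comap f)).ge.trans ?_)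
      exact sup_le le_sup_left (hMT.trans (sup_le (le_normalizer.trans le_sup_left) le_sup_right))
    refine hXtop.ge.trans ?_
    rw [← htop, Subgroup.map_sup]
    refine sup_le ((le_normalizer_map _).trans (normalizer_le hH ((R.2.to_le inf_le_left).map _) ?_ hTH)) hKH
    exact fun e => hT1 ((map_eq_bot_iff_of_injective _ X.subtype_injective).1 e)
  · haveI : (Cfsg.pCore 2 X).Normal := Grp.pCore_isNormal
    refine hXtop.ge.trans (le_trans
      ((map_mono (normalizer_eq_top (H := Cfsg.pCore 2 X)).ge).trans (le_normalizer_map _))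
      (normalizer_le hH (Grp.pCore_isPGroup.map _) ?_ ((map_mono (Grp.pCore_le_sylow R)).trans hRH)))
    exact fun e => hO ((map_eq_bot_iff_of_injective _ X.subtype_injective).1 e)

/-- Some product of two involutions has no fixed point. -/
theorem exists_no_fix (hH : Cfsg.IsStronglyEmbedded H) :
    ∃ t u : G, orderOf t = 2 ∧ orderOf u = 2 ∧ ∀ g : G, g⁻¹ * (t * u) * g ∉ H := by
  classical
  by_contra hcon
  push Not at hcon
  haveI := Fintype.ofFinite G
  haveI := Fintype.ofFinite (G ⧸ H)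
  let F : G ⧸ H → Finset G := fun x => Finset.univ.filter fun i : G => orderOf i = 2 ∧ i • x = x
  let S : (G ⧸ H) × (G ⧸ H) → Finset G :=
    fun a => Finset.univ.filter fun i : G => orderOf i = 2 ∧ i • a.1 = a.2
  have huniq : ∀ i : G, orderOf i = 2 → ∀ z z' : G ⧸ H, i • z = z → i • z' = z' → z = z' := by
    intro i hi z z' h1 h2
    obtain ⟨g, rfl⟩ := QuotientGroup.mk_surjective z
    obtain ⟨h, rfl⟩ := QuotientGroup.mk_surjective z'
    exact QuotientGroup.eq.mpr (Invol.stronglyEmbedded_fix hH hi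
      (Invol.smul_coset_eq_iff.mp h1) (Invol.smul_coset_eq_iff.mp h2))
  set n := Nat.card {t : G // orderOf t = 2 ∧ t ∈ H}
  have hS : ∀ a : (G ⧸ H) × (G ⧸ H), a.1 ≠ a.2 → (S a).card = n := fun a ha => by
    rw [show n = Nat.card {i : G // orderOf i = 2 ∧ i • a.1 = a.2} from
      (Invol.card_swap_eq hH a.1 a.2 ha).symm, Nat.card_eq_fintype_card, Fintype.card_subtype]
  have hF : ∀ x, (F x).card = n := fun x => by
    obtain ⟨g, rfl⟩ := QuotientGroup.mk_surjective x
    rw [← Fintype.card_subtype, ← Nat.card_eq_fintype_card]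
    refine Nat.card_congr ((MulAut.conj g⁻¹).toEquiv.subtypeEquiv fun i => ?_)
    refine and_congr ?_ ?_
    · show _ ↔ orderOf (g⁻¹ * i * g⁻¹⁻¹) = 2
      rw [Invol.orderOf_conj_eq]
    · rw [Invol.smul_coset_eq_iff]
      show _ ↔ g⁻¹ * i * g⁻¹⁻¹ ∈ H
      rw [inv_inv]
  set Δ := (Finset.univ : Finset (G ⧸ H)).offDiag
  have hsub : Δ.biUnion (fun x => F x.1 ×ˢ F x.2) ⊆ Δ.biUnion fun a => (S a).offDiag := by
    rintro ⟨t, u⟩ h
    simp only [Finset.mem_biUnion, Δ, Finset.mem_offDiag, Finset.mem_univ, true_and, F,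
      Finset.mem_product, Finset.mem_filter] at h
    obtain ⟨⟨x, y⟩, hxy, ⟨ht, htx⟩, hu, huy⟩ := h
    obtain ⟨g, hg⟩ := hcon t u ht hu
    have hfix : (t * u) • (QuotientGroup.mk g : G ⧸ H) = QuotientGroup.mk g :=
      Invol.smul_coset_eq_iff.mpr hg
    set a : G ⧸ H := QuotientGroup.mk g
    have hua : u • a = t • a := by
      rw [mul_smul] at hfix
      conv_rhs => rw [← hfix, ← mul_smul, Invol.mul_self_of_orderOf_two ht, one_smul]
    have hta : t • a ≠ a := fun e =>
      hxy ((huniq t ht x a htx e).trans (huniq u hu a y (hua.trans e) huy))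
    simp only [Finset.mem_biUnion, Δ, Finset.mem_offDiag, Finset.mem_univ, true_and, S, Finset.mem_filter]
    exact ⟨(a, t • a), hta.symm, ⟨ht, rfl⟩, ⟨hu, hua⟩, fun e => hxy (huniq t ht x y htx (e ▸ huy))⟩
  have hdisj : (Δ : Set ((G ⧸ H) × (G ⧸ H))).PairwiseDisjoint fun x => F x.1 ×ˢ F x.2 := by
    intro x _ x' _ hne
    simp only [Function.onFun, Finset.disjoint_left]
    rintro ⟨t, u⟩ h1 h2
    simp only [F, Finset.mem_product, Finset.mem_filter, Finset.mem_univ, true_and] at h1 h2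
    exact hne (Prod.ext (huniq t h1.1.1 _ _ h1.1.2 h2.1.2) (huniq u h1.2.1 _ _ h1.2.2 h2.2.2))
  have h := (Finset.card_biUnion hdisj).ge.trans
    ((Finset.card_le_card hsub).trans Finset.card_biUnion_le)
  rw [Finset.sum_congr rfl fun x _ => show (F x.1 ×ˢ F x.2).card = n * n by
      rw [Finset.card_product, hF, hF],
    Finset.sum_congr rfl fun a ha => show (S a).offDiag.card = n * n - n by
      rw [Finset.offDiag_card, hS a (Finset.mem_offDiag.1 ha).2.2],
    Finset.sum_const, Finset.sum_const, smul_eq_mul, smul_eq_mul] at h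
  have hn : 0 < n := by
    obtain ⟨t, ht, ht2⟩ := Invol.exists_orderOf_two_mem hH.2.1
    haveI : Nonempty {t : G // orderOf t = 2 ∧ t ∈ H} := ⟨⟨t, ht2, ht⟩⟩
    exact Nat.card_pos
  have hΔ : 0 < Δ.card := by
    obtain ⟨g, hg⟩ : ∃ g : G, g ∉ H := by
      by_contra hc
      push Not at hc
      exact hH.1 (top_le_iff.mp fun g _ => hc g)
    refine Finset.card_pos.2 ⟨((1 : G), g), ?_⟩
    simp only [Δ, Finset.mem_offDiag, Finset.mem_univ, true_and, ne_eq, QuotientGroup.eq]
    simpa using hg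
  have := Nat.le_of_mul_le_mul_left h hΔ
  have : n ≤ n * n := Nat.le_mul_self n
  omega

namespace Hyp

variable {p : ℕ} {E : Subgroup G}

/-- The intersection with the conjugate by an involution outside is a `p`-group. -/
theorem pgroup_inf (hG : Hyp p G) (hH : Cfsg.IsStronglyEmbedded H)
    (hE : Cfsg.IsElementaryAbelian 2 E) (h4 : 4 ≤ Nat.card E) (hEH : E ≤ H) {u : G}
    (hu : orderOf u = 2) (huH : u ∉ H) :
    IsPGroup p ↥(H ⊓ H.map (MulAut.conj u).toMonoidHom : Subgroup G) := by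
  haveI := Fact.mk hG.prime
  haveI := hG.solv H hH.1
  set D := H ⊓ H.map (MulAut.conj u).toMonoidHom with hD
  have huu : u⁻¹ = u := Invol.inv_of_orderOf_two hu
  refine IsPGroup.of_card (n := (Nat.card D).primeFactorsList.length)
    (Nat.eq_prime_pow_of_unique_prime_dvd Nat.card_pos.ne' fun {q} hq hqd => ?_)
  by_contra hqp
  haveI := Fact.mk hq
  have hDodd : Odd (Nat.card D) := hH.2.2 u huH
  have hq2 : q ≠ 2 := fun e => Nat.not_even_iff_odd.2 hDodd (even_iff_two_dvd.2 (e ▸ hqd))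
  have hu2 : Nat.card (zpowers u) = 2 := by rw [Nat.card_zpowers, hu]
  have huD : zpowers u ≤ normalizer (D : Set G) := by
    have key : ∀ x ∈ D, u * x * u⁻¹ ∈ D := fun x hx => by
      obtain ⟨h1, h2⟩ := Invol.mem_inf_map_conj.1 hx
      refine Invol.mem_inf_map_conj.2 ⟨?_, by simpa [mul_assoc] using h1⟩
      rw [huu] at h2 ⊢
      exact h2
    refine zpowers_le.2 (mem_normalizer_iff.2 fun x => ⟨key x, fun hx => ?_⟩)
    have := key _ hx
    rwa [huu, show u * (u * x * u) * u = (u * u) * x * (u * u) by group,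
      Invol.mul_self_of_orderOf_two hu, one_mul, mul_one] at this
  obtain ⟨X, hX, huX⟩ := Grp.exists_invariant_sylow (zpowers u) D huD
    (by rw [hu2]; exact Nat.coprime_two_left.2 hDodd)
    (Or.inr (Group.isSolvable_of_isSolvable_injective
      (Subgroup.inclusion_injective (inf_le_left : D ≤ H)))) q
  have hqX : q ∣ Nat.card X := by
    have h := relIndex_mul_relIndex ⊥ X D bot_le hX.1
    rw [relIndex_bot_left, relIndex_bot_left] at h
    exact (hq.dvd_mul.1 (h ▸ hqd)).resolve_right hX.2.2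
  obtain ⟨⟨y, hyX⟩, hy⟩ := exists_prime_orderOf_dvd_card' (G := X) q hqX
  rw [Subgroup.orderOf_mk] at hy
  have hXp : (Nat.card X).Coprime p := by
    obtain ⟨k, hk⟩ := IsPGroup.iff_card.1 hX.2.1
    rw [hk]; exact Nat.Coprime.pow_left _ ((Nat.coprime_primes hq hG.prime).2 hqp)
  have hc : Commute y u := hG.commute_of_normalizes hXp (huX (mem_zpowers u))
    (by rw [hu]; exact (Nat.coprime_primes Nat.prime_two hG.prime).2 hG.two_ne.symm) hyX
    (by rw [hy, hu]; exact (Nat.coprime_primes hq Nat.prime_two).2 hq2)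
  have hyH : y ∈ H := (hX.1 hyX).1
  -- a conjugate in `H` of `E` centralises `y`
  obtain ⟨L, k, hLc, -, hcard⟩ := exists_hallPrime (G := H) hG.prime
  have hLn := hG.nilp.subgroup H L hLc
  obtain ⟨g, hg⟩ := Grp.exists_conj_le_hall hcard (Nat.Coprime.pow_right k hLc) (H := L)
    (K := zpowers (⟨y, hyH⟩ : H)) rfl (by
      rw [Nat.card_zpowers, Subgroup.orderOf_mk, hy]
      exact Nat.Coprime.pow_right k ((Nat.coprime_primes hq hG.prime).2 hqp))
  obtain ⟨m, hm⟩ := IsPGroup.iff_card.1 (fun e => ⟨1, Subtype.ext (hE.2 e e.2)⟩ : IsPGroup 2 E)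
  obtain ⟨g', hg'⟩ := Grp.exists_conj_le_hall hcard (Nat.Coprime.pow_right k hLc) (H := L)
    (K := E.subgroupOf H) rfl (by
      haveI : Fact (Nat.Prime 2) := ⟨Nat.prime_two⟩
      rw [Nat.card_congr (subgroupOfEquivOfLe hEH).toEquiv, hm]
      exact Nat.Coprime.pow_left m (Nat.Coprime.pow_right k
        ((Nat.coprime_primes Nat.prime_two hG.prime).2 hG.two_ne.symm)))
  set d : G := (g : G) * (g' : G)⁻¹ with hd
  have hcomm : E.map (MulAut.conj d).toMonoidHom ≤ centralizer ({y} : Set G) := by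
    rintro _ ⟨a, ha, rfl⟩
    have h1 := hg' (show (⟨a, hEH ha⟩ : H) ∈ E.subgroupOf H from ha)
    have h2 := hg (mem_zpowers (⟨y, hyH⟩ : H))
    rw [mem_pointwise_smul_iff_inv_smul_mem, ← map_inv, MulAut.smul_def, MulAut.conj_apply, inv_inv]
      at h1 h2
    have hco : (orderOf (g'⁻¹ * ⟨a, hEH ha⟩ * g' : H)).Coprime (orderOf (g⁻¹ * ⟨y, hyH⟩ * g : H)) := by
      have e1 : orderOf (g'⁻¹ * ⟨a, hEH ha⟩ * g' : H) = orderOf a := by
        rw [← Subgroup.orderOf_mk a (hEH ha)]
        simpa using Invol.orderOf_conj_eq (g'⁻¹) (⟨a, hEH ha⟩ : H)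
      have e2 : orderOf (g⁻¹ * ⟨y, hyH⟩ * g : H) = q := by
        rw [← hy, ← Subgroup.orderOf_mk y hyH]
        simpa using Invol.orderOf_conj_eq (g⁻¹) (⟨y, hyH⟩ : H)
      rw [e1, e2]
      exact Nat.Coprime.coprime_dvd_left (orderOf_dvd_of_pow_eq_one (hE.2 a ha))
        ((Nat.coprime_primes Nat.prime_two hq).2 hq2.symm)
    have h3 := congrArg Subtype.val (Transfer.TypeP.commute_of_coprime_orderOf hLn h1 h2 hco)
    have h4 := (show Commute ((g' : G)⁻¹ * a * g') ((g : G)⁻¹ * y * g) from h3).map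
      (MulAut.conj (g : G)).toMonoidHom
    refine mem_centralizer_singleton_iff.2 ?_
    simpa [hd, mul_assoc] using h4.eq
  haveI := hG.solv _ (hG.centralizer_ne_top (x := y) fun e => hq.one_lt.ne' (by
    rw [← hy, e, orderOf_one]))
  refine huH (le_of_four hH (centralizer ({y} : Set G)) (ZN.map_elemAb d hE)
    (by rwa [Subgroup.card_map_of_injective (MulAut.conj d).injective]) hcomm ?_
    (mem_centralizer_singleton_iff.2 hc.symm.eq))
  rintro _ ⟨a, ha, rfl⟩
  exact mul_mem (mul_mem (mul_mem g.2 (inv_mem g'.2)) (hEH ha)) (inv_mem (mul_mem g.2 (inv_mem g'.2)))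

/-- No Sylow `p`-subgroup lies in a strongly embedded subgroup. -/
theorem sylow_not_le (hG : Hyp p G) (hH : Cfsg.IsStronglyEmbedded H) (P : Sylow p G) :
    ¬ (P : Subgroup G) ≤ H := by
  intro hPH
  haveI := Fact.mk hG.prime
  obtain ⟨t, u, ht, hu, hno⟩ := exists_no_fix hH
  obtain ⟨g, hg⟩ := Invol.exists_fixed hH ht
  obtain ⟨h, hh⟩ := Invol.exists_fixed hH hu
  have hne : g⁻¹ * h ∉ H := fun hm => hno g (by
    have := mul_mem hg (mul_mem (mul_mem hm hh) (inv_mem hm))
    simpa [mul_assoc] using this)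
  have hodd := Invol.even_mul_false hH ht hu hg hh hne
  have hn : orderOf (t * u) = p ^ (orderOf (t * u)).primeFactorsList.length := by
    refine Nat.eq_prime_pow_of_unique_prime_dvd (orderOf_pos _).ne' fun {q} hq hqd => ?_
    by_contra hqp
    set y := (t * u) ^ (orderOf (t * u) / q)
    have hy : orderOf y = q := orderOf_pow_orderOf_div (orderOf_pos _).ne' hqd
    have h1 := hG.eq_one_of_inverted ht (y := y) (by
      have h := Invol.conj_mul_zpow_eq_inv ht hu ((orderOf (t * u) / q : ℕ) : ℤ)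
      rwa [zpow_natCast, zpow_neg, zpow_natCast] at h)
      (by rw [hy]; exact (Nat.coprime_primes hq hG.prime).2 hqp)
      (by rw [hy]; exact Odd.of_dvd_nat hodd hqd)
    rw [h1, orderOf_one] at hy
    exact hq.one_lt.ne hy
  obtain ⟨c, hc⟩ := Invol.exists_conj_mem_sylow hn P
  refine hno c⁻¹ ?_
  simpa [mul_assoc] using hPH hc

end Hyp

end Cfsg.Agent.Block.PNilHall
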