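import Cfsg.Agent.Lib.Block.PNilHall.Basic
import Cfsg.Agent.Lib.Fus.StellFunctor
import Cfsg.Agent.Lib.Invol.ZStar
import Cfsg.Agent.Lib.Grp.ZNGroups.Closure
import Cfsg.Agent.Lib.Grp.ZNGroups.Local2
import Cfsg.Agent.Lib.Grp.Solvable
import Cfsg.Agent.Lib.Block.PPartDerived
import Cfsg.Agent.Lib.Block.SFourFree.Locals
import Cfsg.Agent.S3756

/-!
# A strongly embedded subgroup of 2-rank at least two in a minimal counterexample
-/

set_option autoImplicit false
set_option linter.unusedSectionVars false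
set_option linter.style.haveILetI false

namespace Cfsg.Agent.Block.PNilHall

open Subgroup Cfsg.Agent.Grp

universe u v

/-- The symmetric group of degree four is not an image of a solvable group of this kind. -/
theorem false_of_surj_four {X : Type u} [Group X] [Finite X] [Group.IsSolvable X] {p : ℕ}
    (hp : p.Prime) (hp3 : 3 < p) (h : NilP p X) (g : X →* Equiv.Perm (Fin 4))
    (hg : Function.Surjective g) : False := by
  set Y : Subgroup (Equiv.Perm (Fin 4)) := MulAction.stabilizer (Equiv.Perm (Fin 4)) (3 : Fin 4)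
  have hY : Nat.card Y = 6 := by
    have h1 := Y.card_mul_index
    rw [MulAction.index_stabilizer_of_transitive, Nat.card_perm, Nat.card_fin] at h1
    simp only [Nat.factorial] at h1
    omega
  have hcop : (Nat.card Y).Coprime p := by
    rw [hY, show (6 : ℕ) = 2 * 3 from rfl]
    exact Nat.Coprime.mul_left ((Nat.coprime_primes Nat.prime_two hp).2 (by omega))
      ((Nat.coprime_primes Nat.prime_three hp).2 (by omega))
  have hn : Group.IsNilpotent Y :=
    nilpotent_of_surjective hp (h.subgroup (Y.comap g))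
      ((g.comp (Y.comap g).subtype).codRestrict Y fun x => x.2) (fun ⟨y, hy⟩ => by
        obtain ⟨x, rfl⟩ := hg y
        exact ⟨⟨x, hy⟩, rfl⟩) hcop
  have hm : ∀ σ : Equiv.Perm (Fin 4), σ 3 = 3 → σ ∈ Y := fun σ hσ => hσ
  have hc := Transfer.TypeP.commute_of_coprime_orderOf hn
    (hm (Equiv.swap 0 1) (by decide)) (hm (Equiv.swap 0 1 * Equiv.swap 1 2) (by decide)) (by
      have h2 : orderOf (Equiv.swap (0 : Fin 4) 1) = 2 := orderOf_eq_prime (by decide) (by decide)
      haveI := Fact.mk Nat.prime_three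
      have h3 : orderOf (Equiv.swap (0 : Fin 4) 1 * Equiv.swap 1 2) = 3 :=
        orderOf_eq_prime (by decide) (by decide)
      rw [h2, h3]; decide)
  revert hc
  decide

namespace Hyp

variable {G : Type u} [Group G] [Finite G] {p : ℕ}

theorem sfour_free (hG : Hyp p G) : ¬ Cfsg.Involves (Equiv.Perm (Fin 4)) G := by
  rintro ⟨K, R, hR, ⟨e⟩⟩
  haveI := hR
  set g : K →* Equiv.Perm (Fin 4) := e.toMonoidHom.comp (QuotientGroup.mk' (R.subgroupOf K))
  have hg : Function.Surjective g := e.surjective.comp (QuotientGroup.mk'_surjective _)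
  by_cases hK : K = ⊤
  · subst hK
    haveI := hG.simple
    set s : G →* ℤˣ := (Equiv.Perm.sign.comp g).comp (Subgroup.topEquiv (G := G)).symm.toMonoidHom
    have hs : Function.Surjective s := fun z => by
      obtain ⟨σ, hσ⟩ := Equiv.Perm.sign_surjective (Fin 4) z
      obtain ⟨x, hx⟩ := hg σ
      exact ⟨(x : G), by rw [← hσ, ← hx]; rfl⟩
    rcases IsSimpleGroup.eq_bot_or_eq_top_of_normal s.ker inferInstance with h | h
    · exact hG.not_comm ⟨⟨fun a b => (MonoidHom.ker_eq_bot_iff s).1 h (by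
        rw [map_mul, map_mul, mul_comm])⟩⟩
    · obtain ⟨x, hx⟩ := hs (-1)
      have h1 : s x = 1 := MonoidHom.mem_ker.1 (h ▸ mem_top x)
      exact absurd (hx.symm.trans h1) (by decide)
  · haveI := hG.solv K hK
    exact false_of_surj_four hG.prime hG.three (hG.nilp.subgroup K) g hg

theorem pPrimeCore_two (hG : Hyp p G) : Cfsg.pPrimeCore 2 G = ⊥ := by
  haveI := hG.simple
  refine (IsSimpleGroup.eq_bot_or_eq_top_of_normal _ pPrimeCore_isNormal).resolve_right fun e => ?_
  have h := Grp.pPrimeCore_coprime (p := 2) (G := G)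
  rw [e, Subgroup.card_top, Nat.coprime_two_right] at h
  exact (Nat.not_even_iff_odd.2 h) hG.even_card

theorem pCore_eq_bot (hG : Hyp p G) {q : ℕ} [Fact q.Prime] : Cfsg.pCore q G = ⊥ := by
  haveI := hG.simple
  exact (IsSimpleGroup.eq_bot_or_eq_top_of_normal _ pCore_isNormal).resolve_right
    (hG.ne_top_of_isPGroup Grp.pCore_isPGroup)

theorem solvCent (hG : Hyp p G) : ZN.SolvCent G := fun _ ht =>
  hG.solv _ (hG.centralizer_ne_top (Invol.ne_one_of_orderOf_two ht))

/-- The closure of a Sylow 2-subgroup has order at least eight. -/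
theorem eight_le (hG : Hyp p G) (S : Sylow 2 G) :
    8 ≤ Nat.card (Fus.Stell.wSub (S : Subgroup G)) := by
  haveI : Fact (Nat.Prime 2) := ⟨Nat.prime_two⟩
  haveI := Fact.mk hG.prime
  set A := Fus.Stell.wSub (S : Subgroup G) with hA
  by_contra hlt
  have hAel := (Fus.Stell.good_wSub (S : Subgroup G)).el
  obtain ⟨k, hk⟩ := IsPGroup.iff_card.1 (S.2.to_le (Fus.Stell.wSub_le (S : Subgroup G)) : IsPGroup 2 A)
  have hk3 : k ≤ 2 := by
    by_contra h
    exact hlt (le_of_eq_of_le rfl (hk ▸ Nat.pow_le_pow_right two_pos (by omega : 3 ≤ k)))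
  have hA4 : (Nat.card A).factorial ∣ 24 := by
    rw [hk]
    exact Nat.factorial_dvd_factorial (Nat.pow_le_pow_right two_pos hk3 : 2 ^ k ≤ 4)
  set N := normalizer (A : Set G) with hN
  have hSN : (S : Subgroup G) ≤ N := (Fus.Stell.good_wSub (S : Subgroup G)).norm
  have hAp : (Nat.card A).Coprime p := by
    rw [hk]; exact Nat.Coprime.pow_left _ ((Nat.coprime_primes Nat.prime_two hG.prime).2 hG.two_ne.symm)
  -- elements of odd order act trivially
  have hodd : ∀ x ∈ N, Odd (orderOf x) → ∀ a ∈ A, Commute x a := by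
    intro x hx hxo a ha
    obtain ⟨m, hm⟩ : p ^ (orderOf x).factorization p ∣ orderOf x := Nat.ordProj_dvd _ _
    set k' := (orderOf x).factorization p
    have hm0 : m ≠ 0 := fun e => (orderOf_pos x).ne' (by rw [hm, e, mul_zero])
    have hmp : m.Coprime p := by
      have h := (Nat.coprime_ordCompl hG.prime (orderOf_pos x).ne').symm
      have e : orderOf x / p ^ k' = m := by
        rw [hm, Nat.mul_div_cancel_left _ (pow_pos hG.prime.pos _)]
      rwa [e] at h
    have h1 : Commute (x ^ p ^ k') a := by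
      have ho : orderOf (x ^ p ^ k') = m := by
        rw [orderOf_pow_of_dvd (pow_pos hG.prime.pos _).ne' (hm ▸ dvd_mul_right _ m), hm,
          Nat.mul_div_cancel_left _ (pow_pos hG.prime.pos _)]
      refine (hG.commute_of_normalizes hAp (pow_mem hx _) (by rw [ho]; exact hmp) ha ?_).symm
      rw [ho]
      refine Nat.Coprime.coprime_dvd_left ?_ (?_ : (Nat.card A).Coprime m)
      · exact (Subgroup.orderOf_mk a ha) ▸ orderOf_dvd_natCard (⟨a, ha⟩ : A)
      rw [hk]
      refine Nat.Coprime.pow_left _ (Nat.coprime_two_left.2 ?_)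
      exact Odd.of_dvd_nat hxo (hm ▸ dvd_mul_left m _)
    have h2 : Commute (x ^ m) a := by
      set φ : Equiv.Perm A := (MulAut.toPerm A).comp (normalizerMonoidHom A) ⟨x ^ m, pow_mem hx m⟩
      have hφ : φ = 1 := by
        rw [← orderOf_eq_one_iff]
        refine Nat.eq_one_of_dvd_coprimes (Nat.Coprime.pow_right k' ?_) (?_ : _ ∣ 24) (?_ : _ ∣ p ^ k')
        · have : ¬ p ∣ 24 := by
            intro hd
            have h5 := (show (24 : ℕ) = 2 ^ 3 * 3 from rfl) ▸ hd
            rcases hG.prime.dvd_mul.1 h5 with h6 | h6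
            · exact hG.two_ne ((Nat.prime_dvd_prime_iff_eq hG.prime Nat.prime_two).1 (hG.prime.dvd_of_dvd_pow h6))
            · have := (Nat.prime_dvd_prime_iff_eq hG.prime Nat.prime_three).1 h6
              have := hG.three
              omega
          exact ((hG.prime.coprime_iff_not_dvd).2 this).symm
        · exact (orderOf_dvd_natCard φ).trans (by rw [Nat.card_perm]; exact hA4)
        · refine (orderOf_map_dvd _ _).trans ?_
          rw [Subgroup.orderOf_mk]
          refine orderOf_dvd_of_pow_eq_one ?_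
          rw [← pow_mul, mul_comm, ← hm, pow_orderOf_eq_one]
      have := congrArg (fun σ : Equiv.Perm A => ((σ ⟨a, ha⟩ : A) : G)) hφ
      exact mul_inv_eq_iff_eq_mul.1 this
    have hg : x ∈ centralizer ({a} : Set G) := by
      have hco : (p ^ k').Coprime m := Nat.Coprime.pow_left _ hmp.symm
      have h3 : x ^ ((Nat.gcd (p ^ k') m : ℕ) : ℤ) ∈ centralizer ({a} : Set G) := by
        rw [Nat.gcd_eq_gcd_ab, zpow_add, zpow_mul, zpow_mul, zpow_natCast, zpow_natCast]
        exact mul_mem (zpow_mem (mem_centralizer_singleton_iff.2 h1) _)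
          (zpow_mem (mem_centralizer_singleton_iff.2 h2) _)
      rwa [hco.gcd_eq_one, Nat.cast_one, zpow_one] at h3
    exact mem_centralizer_singleton_iff.1 hg
  haveI : (A.subgroupOf N).Normal :=
    normal_subgroupOf_iff_le_normalizer (le_normalizer : A ≤ N) |>.2 le_rfl
  set C : Subgroup N := centralizer ((A.subgroupOf N : Subgroup N) : Set N) with hC
  haveI : C.Normal := by rw [hC]; infer_instance
  obtain ⟨z, hz2, hzS, hzc⟩ : ∃ z : G, orderOf z = 2 ∧ z ∈ (S : Subgroup G) ∧
      ∀ s ∈ (S : Subgroup G), s * z = z * s := by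
    haveI : Nontrivial (S : Subgroup G) := (Subgroup.nontrivial_iff_ne_bot _).2 fun e => by
      have := S.dvd_card_of_dvd_card hG.even_card.two_dvd
      rw [e, Subgroup.card_bot] at this
      omega
    haveI := S.2.center_nontrivial
    obtain ⟨w, hw⟩ := exists_prime_orderOf_dvd_card' (G := center (S : Subgroup G)) 2 (by
      obtain ⟨n, hn0, hn⟩ := (S.2.to_subgroup (center (S : Subgroup G))).nontrivial_iff_card.1 inferInstance
      rw [hn]; exact dvd_pow_self 2 hn0.ne')
    exact ⟨((w : (S : Subgroup G)) : G), by rw [orderOf_coe, orderOf_coe, hw], (w : (S : Subgroup G)).2,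
      fun s hs => congrArg Subtype.val (mem_center_iff.1 w.2 ⟨s, hs⟩)⟩
  have hzA : z ∈ A := Fus.Stell.omegaZ_le_wSub (S : Subgroup G)
    ⟨⟨hzS, by rw [← hz2]; exact pow_orderOf_eq_one z⟩, hzc⟩
  set T : Subgroup N := (centralizer ({z} : Set G)).subgroupOf N
  have hCT : C ≤ T := fun x hx => mem_subgroupOf.2 (mem_centralizer_singleton_iff.2
    (congrArg Subtype.val (mem_centralizer_iff.1 hx ⟨z, le_normalizer hzA⟩ hzA)).symm)
  have hST : (S : Subgroup G).subgroupOf N ≤ T := fun x hx =>
    mem_subgroupOf.2 (mem_centralizer_singleton_iff.2 (hzc _ hx))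
  have hQ : IsPGroup 2 (N ⧸ C) := by
    intro q
    obtain ⟨n, rfl⟩ := QuotientGroup.mk'_surjective C q
    set a := (orderOf (n : G)).factorization 2
    refine ⟨a, ?_⟩
    rw [← map_pow, QuotientGroup.mk'_apply, QuotientGroup.eq_one_iff, hC, mem_centralizer_iff]
    intro b hb
    refine Subtype.ext (hodd ((n : G) ^ 2 ^ a) (pow_mem n.2 _) ?_ b hb).eq.symm
    have hd : 2 ^ a ∣ orderOf (n : G) := Nat.ordProj_dvd _ _
    rw [orderOf_pow_of_dvd (pow_pos two_pos _).ne' hd, ← Nat.coprime_two_left]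
    exact Nat.coprime_ordCompl Nat.prime_two (orderOf_pos _).ne'
  have hTtop : T = ⊤ := by
    rw [← index_eq_one]
    obtain ⟨k, hk⟩ := IsPGroup.iff_card.1 hQ
    have h1 : T.index ∣ 2 ^ k := by
      rw [← hk, ← C.index_eq_card]
      exact index_dvd_of_le hCT
    have h2 : ¬ 2 ∣ T.index := fun hd => S.not_dvd_index
      ((hd.trans (index_dvd_of_le hST)).trans (relIndex_dvd_index_of_le hSN))
    obtain ⟨j, -, hj⟩ := (Nat.dvd_prime_pow Nat.prime_two).1 h1
    rcases j with _ | j
    · simpa using hj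
    · exact absurd (hj ▸ dvd_pow_self 2 j.succ_ne_zero) h2
  have hiso : ∀ g : G, g * z * g⁻¹ ∈ S → g * z * g⁻¹ = z := by
    intro g hg
    obtain ⟨x, hx, he⟩ := (Fus.Stell.controls_fusion hG.sfour_free S (A := {z})
      (Set.singleton_subset_iff.2 hzS)).2 g (by rintro _ ⟨a, rfl, rfl⟩; exact hg)
    rw [he z rfl]
    have : (⟨x, hx⟩ : N) ∈ T := hTtop ▸ mem_top _
    rw [mem_centralizer_singleton_iff.1 (mem_subgroupOf.1 this), mul_inv_cancel_right]
  obtain ⟨O, hOn, hOodd, hO⟩ := ZStar.exists_odd_normal (ZStar.isIsolated_of_sylow hzS hz2 hiso)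
  haveI := hG.simple
  rcases IsSimpleGroup.eq_bot_or_eq_top_of_normal O hOn with h | h
  · have hzcen : z ∈ center G := mem_center_iff.2 fun g => by
      have := hO g
      rw [h, mem_bot] at this
      exact (mul_inv_eq_iff_eq_mul.1 (mul_inv_eq_one.1 this)).symm
    rw [hG.center_eq_bot, mem_bot] at hzcen
    exact Invol.ne_one_of_orderOf_two hz2 hzcen
  · rw [h, Subgroup.card_top] at hOodd
    exact Nat.not_even_iff_odd.2 hOodd hG.even_card

/-- There is a strongly embedded subgroup with an elementary abelian subgroup of order at least four. -/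
theorem exists_embedded (hG : Hyp p G) : ∃ H E : Subgroup G, Cfsg.IsStronglyEmbedded H ∧
    Cfsg.IsElementaryAbelian 2 E ∧ 4 ≤ Nat.card E ∧ E ≤ H := by
  haveI : Fact (Nat.Prime 2) := ⟨Nat.prime_two⟩
  obtain ⟨S⟩ : Nonempty (Sylow 2 G) := Sylow.nonempty
  set A := Fus.Stell.wSub (S : Subgroup G) with hAdef
  have hgood := Fus.Stell.good_wSub (S : Subgroup G)
  have hAS : A ≤ (S : Subgroup G) := Fus.Stell.wSub_le _
  have h8 : 8 ≤ Nat.card A := hG.eight_le S
  have hcon := ZN.localConstrained hG.solvCent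
  -- every strongly embedded subgroup contains a conjugate of `A`
  suffices h : ∃ H : Subgroup G, Cfsg.IsStronglyEmbedded H by
    obtain ⟨H, hH⟩ := h
    obtain ⟨P, hP⟩ := ZN.exists_sylow_le hH
    obtain ⟨g, rfl⟩ := MulAction.exists_smul_eq G S P
    refine ⟨H, A.map (MulAut.conj g).toMonoidHom, hH, ZN.map_elemAb g hgood.el, ?_, fun x hx => hP ?_⟩
    · rw [Subgroup.card_map_of_injective (MulAut.conj g).injective]; omega
    · obtain ⟨a, ha, rfl⟩ := hx
      rw [Sylow.coe_subgroup_smul]
      exact Subgroup.smul_mem_pointwise_smul _ _ _ (hAS ha)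
  obtain ⟨hodd, hclo⟩ := ConstrainedCores.exists_odd_closure hcon ZN.ft S A hAS
    (fun g hg e he => (mem_normalizer_iff.1 (hgood.norm hg) e).1 he) hgood.el h8
  set W := ConstrainedCores.coreOver A with hW
  have hU : ZN.Uniform S W := by
    refine ⟨hodd, fun B hBS hB h4 => ((hclo B hBS ?_).1).symm, ⟨A, hAS, hgood.el, by omega⟩⟩
    intro hr
    have h1 := hr ⊤ ⟨⟨fun a b => Subtype.ext (Subtype.ext (Grp.elemAb_comm hB _ a.1.2 _ b.1.2))⟩⟩
      (fun a _ => Subtype.ext (by rw [SubmonoidClass.coe_pow]; exact hB.2 a a.2))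
    rw [Subgroup.card_top, pow_one] at h1
    omega
  have hNA : normalizer (A : Set G) ≤ normalizer (W : Set G) := by
    refine (hclo A hAS fun hr => ?_).2
    have h1 := hr ⊤ ⟨⟨fun a b => Subtype.ext (Subtype.ext (Grp.elemAb_comm hgood.el _ a.1.2 _ b.1.2))⟩⟩
      (fun a _ => Subtype.ext (by rw [SubmonoidClass.coe_pow]; exact hgood.el.2 a a.2))
    rw [Subgroup.card_top, pow_one] at h1
    omega
  obtain ⟨z, hz2, hzS, hzc⟩ : ∃ z : G, orderOf z = 2 ∧ z ∈ (S : Subgroup G) ∧
      ∀ s ∈ (S : Subgroup G), s * z = z * s := by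
    haveI : Nontrivial (S : Subgroup G) := (Subgroup.nontrivial_iff_ne_bot _).2 fun e => by
      have := S.dvd_card_of_dvd_card hG.even_card.two_dvd
      rw [e, Subgroup.card_bot] at this
      omega
    haveI := S.2.center_nontrivial
    obtain ⟨w, hw⟩ := exists_prime_orderOf_dvd_card' (G := center (S : Subgroup G)) 2 (by
      obtain ⟨n, hn0, hn⟩ := (S.2.to_subgroup (center (S : Subgroup G))).nontrivial_iff_card.1 inferInstance
      rw [hn]; exact dvd_pow_self 2 hn0.ne')
    exact ⟨((w : (S : Subgroup G)) : G), by rw [orderOf_coe, orderOf_coe, hw], (w : (S : Subgroup G)).2,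
      fun s hs => congrArg Subtype.val (mem_center_iff.1 w.2 ⟨s, hs⟩)⟩
  have hzA : z ∈ A := Fus.Stell.omegaZ_le_wSub (S : Subgroup G)
    ⟨⟨hzS, by rw [← hz2]; exact pow_orderOf_eq_one z⟩, hzc⟩
  have hCz : centralizer ({z} : Set G) ≤ normalizer (W : Set G) := by
    set L := centralizer ({z} : Set G) with hL
    haveI : Group.IsSolvable L := hG.solvCent z hz2
    have hSL : (S : Subgroup G) ≤ L := fun s hs => mem_centralizer_singleton_iff.2 (hzc s hs)
    set P := S.subtype hSL with hP
    have hPS : (P : Subgroup L).map L.subtype = (S : Subgroup G) := by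
      rw [hP, Sylow.coe_subtype, map_subgroupOf_eq_of_le hSL]
    set A' := Fus.Stell.wSub (P : Subgroup L) with hA'
    have hA'A : A'.map L.subtype = A := by
      rw [hA', Fus.Stell.wSub_map L.subtype_injective, hPS]
    set O := Cfsg.pPrimeCore 2 L
    haveI : O.Normal := Grp.pPrimeCore_isNormal
    set f := QuotientGroup.mk' O with hf
    set Pb := P.mapSurjective (QuotientGroup.mk'_surjective O)
    have hcore : Cfsg.pPrimeCore 2 (L ⧸ O) = ⊥ := Block.PPartDerived.pPrimeCore_quotient_eq_bot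
    have hfree : ¬ Cfsg.Involves (Equiv.Perm (Fin 4)) (L ⧸ O) := by
      rintro ⟨K, R, hR, ⟨e⟩⟩
      haveI := hR
      refine false_of_surj_four hG.prime hG.three ((hG.nilp.subgroup L).subgroup (K.comap f))
        ((e.toMonoidHom.comp (QuotientGroup.mk' (R.subgroupOf K))).comp
          ((f.comp (K.comap f).subtype).codRestrict K fun x => x.2)) ?_
      refine (e.surjective.comp (QuotientGroup.mk'_surjective _)).comp fun ⟨k, hk⟩ => ?_
      obtain ⟨x, rfl⟩ := QuotientGroup.mk'_surjective O k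
      exact ⟨⟨x, hk⟩, rfl⟩
    have hn := Fus.Stell.wSub_normal_of_free Pb (Grp.centralizer_pCore_le hcore) hfree
    have hWb : Fus.Stell.wSub (Pb : Subgroup (L ⧸ O)) = A'.map f := by
      have hinj : Function.Injective (f.comp (P : Subgroup L).subtype) := by
        rw [← MonoidHom.ker_eq_bot_iff, eq_bot_iff]
        intro x hx
        have hxO : (x : L) ∈ O := (QuotientGroup.eq_one_iff _).1 hx
        obtain ⟨k, hk⟩ := IsPGroup.iff_orderOf.1 P.2 x
        refine mem_bot.2 (orderOf_eq_one_iff.1 (Nat.eq_one_of_dvd_coprimes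
          (Grp.pPrimeCore_coprime (p := 2) (G := L) |>.pow_right k) ?_ (hk ▸ dvd_rfl)))
        rw [← orderOf_coe, ← Subgroup.orderOf_mk (x : L) hxO]
        exact orderOf_dvd_natCard (⟨(x : L), hxO⟩ : O)
      show Fus.Stell.wSub ((P : Subgroup L).map f) = _
      rw [hA', ← Fus.Stell.map_top_eq (P : Subgroup L), Subgroup.map_map, Fus.Stell.wSub_map hinj,
        ← MonoidHom.range_eq_map, MonoidHom.range_comp, Subgroup.range_subtype]
    set M := (A'.map f).comap f with hM
    haveI : M.Normal := (hWb ▸ hn).comap f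
    have hMeq : M = A' ⊔ O := by rw [hM, comap_map_eq, hf, QuotientGroup.ker_mk']
    have hA'p : IsPGroup 2 A' := P.2.to_le (Fus.Stell.wSub_le _)
    have hsyl : Grp.IsSylowIn 2 A' M := by
      refine ⟨le_comap_map _ _, hA'p, fun hd => ?_⟩
      have h1 : A'.relIndex M * Nat.card A' = Nat.card M := by
        rw [mul_comm, ← relIndex_bot_left A', ← relIndex_bot_left M]
        exact relIndex_mul_relIndex ⊥ A' M bot_le (le_comap_map _ _)
      have h2 : Nat.card M ∣ Nat.card A' * Nat.card O := by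
        rw [hMeq]
        exact Grp.card_sup_dvd_mul (by rw [normalizer_eq_top]; exact le_top)
      rw [← h1, mul_comm (Nat.card A')] at h2
      exact Nat.prime_two.coprime_iff_not_dvd.1 (Grp.pPrimeCore_coprime (p := 2) (G := L)).symm
        (hd.trans (Nat.dvd_of_mul_dvd_mul_right Nat.card_pos h2))
    obtain ⟨Q, hQ⟩ := Grp.isSylowIn_iff.1 hsyl
    have hfr := Sylow.normalizer_sup_eq_top Q
    rw [hQ, hMeq] at hfr
    have htop : normalizer (A' : Set L) ⊔ O = ⊤ := top_le_iff.1 (hfr.ge.trans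
      (sup_le le_sup_left (sup_le (le_normalizer.trans le_sup_left) le_sup_right)))
    calc L = (⊤ : Subgroup L).map L.subtype := by rw [← MonoidHom.range_eq_map, range_subtype]
      _ ≤ normalizer (W : Set G) := by
        rw [← htop, Subgroup.map_sup]
        refine sup_le ((le_normalizer_map _).trans ?_) ?_
        · rw [hA'A]; exact hNA
        · exact (ConstrainedCores.le_coreOver hzA (Invol.ne_one_of_orderOf_two hz2)).trans le_normalizer
  rcases hU.dichotomy hcon hG.pPrimeCore_two hzS hz2 (fun s hs => (hzc s hs).symm) hCz with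
    ⟨M, hM, -⟩ | hcores
  · exact ⟨M, hM⟩
  have hchar := ZN.isCharacteristicTwoType hG.solvCent hG.even_card hcores
  have hloc : Cfsg.IsTwoLocal (normalizer ((zpowers z : Subgroup G) : Set G)) :=
    ⟨zpowers z, ZN.isPGroup_two_zpowers (by rw [← hz2]; exact pow_orderOf_eq_one z),
      fun e => Invol.ne_one_of_orderOf_two hz2 (zpowers_eq_bot.1 e), rfl⟩
  obtain ⟨M, hM, -⟩ := Block.SFour.exists_maximal hloc
  refine ⟨M, Cfsg.Agent.S3756.result hG.even_card hG.pCore_eq_bot ?_ M hM⟩
  rintro N ⟨T, hT, hT1, rfl⟩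
  refine ⟨hG.solv _ (hG.normalizer_ne_top hT1 (hG.ne_top_of_isPGroup hT)), hchar.2 T hT hT1, ?_⟩
  rintro ⟨K, R, hR, ⟨e⟩⟩
  haveI := hR
  haveI := hG.solv _ (hG.normalizer_ne_top hT1 (hG.ne_top_of_isPGroup hT))
  exact false_of_surj_four hG.prime hG.three ((hG.nilp.subgroup _).subgroup K)
    (e.toMonoidHom.comp (QuotientGroup.mk' (R.subgroupOf K)))
    (e.surjective.comp (QuotientGroup.mk'_surjective _))

end Hyp

end Cfsg.Agent.Block.PNilHall
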