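import Cfsg.Agent.Lib.Block.PNilHall.Embedded
import Cfsg.Agent.Lib.Invol.RealFreeBasic
import Cfsg.Agent.Lib.Transfer.PStableFree
import Cfsg.Agent.Lib.Fus.TransitivityOdd
import Cfsg.Agent.Lib.Grp.Frattini
import Cfsg.Agent.S0664

/-!
# A Sylow `p`-subgroup of the strongly embedded subgroup is one of the whole group
-/

set_option autoImplicit false
set_option linter.unusedSectionVars false
set_option linter.style.haveILetI false

namespace Cfsg.Agent.Block.PNilHall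

open Subgroup Cfsg.Agent.Grp
open scoped Pointwise

universe u

/-- The orbit of an element under conjugation by a `p`-subgroup. -/
theorem exists_conj_orbit_card {G : Type u} [Group G] [Finite G] {p : ℕ} [Fact p.Prime]
    {Q : Subgroup G} (hQ : IsPGroup p Q) (a : G) :
    ∃ k : ℕ, Set.ncard {b : G | ∃ d ∈ Q, d * a * d⁻¹ = b} = p ^ k := by
  set Q' : Subgroup (ConjAct G) := Q.map ConjAct.toConjAct.toMonoidHom
  obtain ⟨k, hk⟩ := (hQ.map ConjAct.toConjAct.toMonoidHom : IsPGroup p Q').card_orbit a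
  refine ⟨k, ?_⟩
  rw [← hk, ← Nat.card_coe_set_eq]
  congr 1
  refine congrArg _ (Set.ext fun b => ?_)
  constructor
  · rintro ⟨d, hd, rfl⟩
    exact ⟨⟨ConjAct.toConjAct d, Subgroup.mem_map_of_mem _ hd⟩, by
      show ConjAct.toConjAct d • a = _
      rw [ConjAct.toConjAct_smul]⟩
  · rintro ⟨⟨_, d, hd, rfl⟩, rfl⟩
    refine ⟨d, hd, ?_⟩
    show _ = ConjAct.toConjAct d • a
    rw [ConjAct.toConjAct_smul]

theorem two_pow_eq_prime_pow_succ {p n f : ℕ} (hp : p.Prime) (hp3 : 3 < p) (hn : 2 ≤ n)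
    (h : 2 ^ n = p ^ f + 1) : f = 1 := by
  have hodd : Odd p := hp.odd_of_ne_two (by omega)
  have h4 : 4 ∣ 2 ^ n := (show 4 = 2 ^ 2 from rfl) ▸ Nat.pow_dvd_pow 2 hn
  rcases Nat.even_or_odd f with ⟨j, rfl⟩ | ⟨k, rfl⟩
  · exfalso
    obtain ⟨r, hr⟩ := hodd.pow (n := j)
    have e : p ^ (j + j) + 1 = 4 * (r * r + r) + 2 := by rw [pow_add, hr]; ring
    omega
  by_contra hne
  have hk : 1 ≤ k := by omega
  obtain ⟨a, -, ha⟩ : ∃ a ≤ n, p + 1 = 2 ^ a := (Nat.dvd_prime_pow Nat.prime_two).1 (by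
    have hd : p + 1 ∣ p ^ (2 * k + 1) + 1 ^ (2 * k + 1) := Odd.nat_add_dvd_pow_add_pow p 1 ⟨k, rfl⟩
    rw [h]; simpa using hd)
  have hA : (p : ℤ) = 2 ^ a - 1 := by
    have h' : ((p + 1 : ℕ) : ℤ) = ((2 ^ a : ℕ) : ℤ) := congrArg _ ha
    push_cast at h'
    linarith
  have key : ∀ i : ℕ, ∃ c : ℤ, (p : ℤ) ^ (2 * i + 1) + 1 = (2 * i + 1) * 2 ^ a + 2 ^ a * 2 ^ a * c := by
    intro i
    induction i with
    | zero => exact ⟨0, by rw [hA]; push_cast; ring⟩
    | succ i ih =>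
      obtain ⟨c, hc⟩ := ih
      refine ⟨c * ((p : ℤ) * p) + (2 * i + 1) * 2 ^ a - (4 * i + 3), ?_⟩
      have e : (p : ℤ) ^ (2 * (i + 1) + 1) = ((p : ℤ) ^ (2 * i + 1) + 1) * (p * p) - p * p := by ring
      rw [e, hc, hA]; push_cast; ring
  obtain ⟨c, hc⟩ := key k
  have hna : a + a ≤ n := by
    refine (Nat.pow_le_pow_iff_right (by norm_num : 1 < 2)).1 ?_
    rw [h, pow_add, ← ha]
    have h1 : p ^ 3 ≤ p ^ (2 * k + 1) := Nat.pow_le_pow_right hp.pos (by omega)
    nlinarith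
  have hcast : ((p : ℤ) ^ (2 * k + 1) + 1) = 2 ^ n := by exact_mod_cast h.symm
  obtain ⟨d, rfl⟩ := Nat.exists_eq_add_of_le hna
  rw [hcast, pow_add, pow_add] at hc
  have h2 : (2 * (k : ℤ) + 1) = 2 ^ a * (2 ^ d - c) :=
    mul_right_cancel₀ (b := (2 : ℤ) ^ a) (pow_ne_zero _ two_ne_zero) (by linear_combination hc.symm)
  rcases a with _ | a
  · simp at ha
    omega
  · have h3 : (2 : ℤ) ∣ 2 * (k : ℤ) + 1 := ⟨2 ^ a * (2 ^ d - c), by rw [h2]; ring⟩
    omega

variable {G : Type u} [Group G] [Finite G] {p : ℕ} {H E : Subgroup G}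

namespace Hyp

/-- The case of a strongly embedded subgroup without normal 2-subgroups. -/
theorem normalizer_le_of_core_eq_bot (hG : Hyp p G) (hH : Cfsg.IsStronglyEmbedded H)
    (hE : Cfsg.IsElementaryAbelian 2 E) (h4 : 4 ≤ Nat.card E) (hEH : E ≤ H)
    (hO : Cfsg.pCore 2 H = ⊥) (P : Sylow p H) (hP1 : (P : Subgroup H) ≠ ⊥) :
    normalizer (((P : Subgroup H).map H.subtype : Subgroup G) : Set G) ≤ H := by
  haveI := Fact.mk hG.prime
  haveI : Fact (Nat.Prime 2) := ⟨Nat.prime_two⟩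
  haveI := hG.solv H hH.1
  set Q0 := Cfsg.pPrimeCore p H with hQ0
  haveI : Q0.Normal := Grp.pPrimeCore_isNormal
  -- the core is odd
  have hQodd : ¬ 2 ∣ Nat.card Q0 := by
    intro hd
    haveI hnil := hG.nilp.subgroup H Q0 Grp.pPrimeCore_coprime
    obtain ⟨T⟩ : Nonempty (Sylow 2 Q0) := Sylow.nonempty
    haveI : (T : Subgroup Q0).Characteristic :=
      T.characteristic_of_normal (Grp.isNilpotent_iff_sylow_normal.1 hnil 2 inferInstance T)
    have h1 : (T : Subgroup Q0).map Q0.subtype ≤ Cfsg.pCore 2 H :=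
      Grp.le_pCore inferInstance (T.2.map _)
    rw [hO, le_bot_iff, map_eq_bot_iff_of_injective _ Q0.subtype_injective] at h1
    have h2 := T.dvd_card_of_dvd_card hd
    rw [h1, Subgroup.card_bot] at h2
    omega
  set f := QuotientGroup.mk' Q0 with hf
  set Z := Cfsg.centerThompsonAOf (P : Subgroup H) with hZ
  have hZP : Z ≤ (P : Subgroup H) := Invol.RealFree.centerThompsonA_le _
  have hinj : Set.InjOn f ((P : Subgroup H) : Set H) := by
    intro x hx y hy he
    rw [← inv_mul_eq_one, ← orderOf_eq_one_iff]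
    have hmem : x⁻¹ * y ∈ Q0 := QuotientGroup.eq.1 he
    obtain ⟨k, hk⟩ := IsPGroup.iff_orderOf.1 P.2 ⟨x⁻¹ * y, mul_mem (inv_mem hx) hy⟩
    rw [Subgroup.orderOf_mk] at hk
    refine Nat.eq_one_of_dvd_coprimes ((Grp.pPrimeCore_coprime (p := p) (G := H)).pow_right k) ?_
      (dvd_of_eq hk)
    exact (Subgroup.orderOf_mk (x⁻¹ * y) hmem) ▸ orderOf_dvd_natCard (⟨x⁻¹ * y, hmem⟩ : Q0)
  set Pb := P.mapSurjective (QuotientGroup.mk'_surjective Q0)
  have h5 : 5 ≤ p := by
    have := hG.three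
    have h4' : p ≠ 4 := fun e => (by decide : ¬ Nat.Prime 4) (e ▸ hG.prime)
    omega
  have hn : (Cfsg.centerThompsonAOf (Pb : Subgroup (H ⧸ Q0))).Normal :=
    Cfsg.Agent.S0664.result hG.two_ne
      (Transfer.qdFree_of_isPSolvable h5
        (Fus.TransOdd.isPSolvable_of_solvable hG.prime _ _ rfl inferInstance))
      (Grp.centralizer_pCore_le Block.PPartDerived.pPrimeCore_quotient_eq_bot) Pb
  have hWb : Cfsg.centerThompsonAOf (Pb : Subgroup (H ⧸ Q0)) = Z.map f :=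
    Invol.RealFree.centerThompsonA_map f hinj
  set M := (Z.map f).comap f with hM
  haveI : M.Normal := (hWb ▸ hn).comap f
  have hMeq : M = Z ⊔ Q0 := by rw [hM, comap_map_eq, hf, QuotientGroup.ker_mk']
  have hsyl : Grp.IsSylowIn p Z M := by
    refine ⟨le_comap_map _ _, P.2.to_le hZP, fun hd => ?_⟩
    have h1 : Z.relIndex M * Nat.card Z = Nat.card M := by
      rw [mul_comm, ← relIndex_bot_left Z, ← relIndex_bot_left M]
      exact relIndex_mul_relIndex ⊥ Z M bot_le (le_comap_map _ _)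
    have h2 : Nat.card M ∣ Nat.card Z * Nat.card Q0 := by
      rw [hMeq]
      exact Grp.card_sup_dvd_mul (by rw [normalizer_eq_top]; exact le_top)
    rw [← h1, mul_comm (Nat.card Z)] at h2
    exact hG.prime.coprime_iff_not_dvd.1 (Grp.pPrimeCore_coprime (p := p) (G := H)).symm
      (hd.trans (Nat.dvd_of_mul_dvd_mul_right Nat.card_pos h2))
  obtain ⟨R, hR⟩ := Grp.isSylowIn_iff.1 hsyl
  have hfr := Sylow.normalizer_sup_eq_top R
  rw [hR, hMeq] at hfr
  set N := normalizer (Z : Set H) with hN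
  have htop : N ⊔ Q0 = ⊤ := top_le_iff.1 (hfr.ge.trans
    (sup_le le_sup_left (sup_le (le_normalizer.trans le_sup_left) le_sup_right)))
  have hidx : ¬ 2 ∣ N.index := fun hd => hQodd (hd.trans (by
    have h := Grp.card_sup_dvd_mul (H := N) (N := Q0) (by rw [normalizer_eq_top]; exact le_top)
    rw [htop, Subgroup.card_top, ← N.card_mul_index] at h
    exact Nat.dvd_of_mul_dvd_mul_left Nat.card_pos h))
  have hEp : IsPGroup 2 E := fun e => ⟨1, Subtype.ext (hE.2 e e.2)⟩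
  obtain ⟨c, hc⟩ := (hEp.comap_of_injective H.subtype H.subtype_injective).nonempty_fixed_point_of_prime_not_dvd_card (H ⧸ N) hidx
  obtain ⟨c, rfl⟩ := QuotientGroup.mk_surjective c
  -- the normaliser in the whole group
  set Zg := Z.map H.subtype with hZg
  have hZ1 : Zg ≠ ⊥ := fun e => Invol.RealFree.centerThompsonA_ne_bot P.2 hP1
    ((map_eq_bot_iff_of_injective _ H.subtype_injective).1 e)
  haveI := hG.solv _ (hG.normalizer_ne_top hZ1 fun e => hH.1 (top_le_iff.1 (e ▸ map_subtype_le _)))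
  have hNle : N.map H.subtype ≤ normalizer (Zg : Set G) := le_normalizer_map _
  set B := E.map (MulAut.conj (c : G)⁻¹).toMonoidHom
  have hBN : ∀ b ∈ B, ∃ hb : b ∈ H, (⟨b, hb⟩ : H) ∈ N := by
    rintro _ ⟨e, he, rfl⟩
    refine ⟨mul_mem (mul_mem (inv_mem c.2) (hEH he)) (by simp [c.2]), ?_⟩
    have h := hc ⟨⟨e, hEH he⟩, he⟩
    have h' : c⁻¹ * ⟨e, hEH he⟩ * c ∈ N := Invol.smul_coset_eq_iff.1 h
    convert h' using 1
    exact Subtype.ext (by simp)
  have hle : normalizer (Zg : Set G) ≤ H := by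
    refine le_of_four hH _ (ZN.map_elemAb _ hE)
      (by rwa [Subgroup.card_map_of_injective (MulAut.conj (c : G)⁻¹).injective]) ?_ ?_
    · intro b hb
      obtain ⟨hbH, hbN⟩ := hBN b hb
      exact hNle ⟨_, hbN, rfl⟩
    · exact fun b hb => (hBN b hb).1
  refine le_trans ?_ hle
  rw [hZg, hZ, ← Invol.RealFree.centerThompsonA_map H.subtype H.subtype_injective.injOn]
  exact Invol.RealFree.normalizer_le_normalizer_zj _

/-- Every involution of `H` lies in one elementary abelian subgroup normalised by `H`. -/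
theorem exists_involution_group (hH : Cfsg.IsStronglyEmbedded H) (hO : Cfsg.pCore 2 H ≠ ⊥) :
    ∃ Z : Subgroup G, Cfsg.IsElementaryAbelian 2 Z ∧ (∀ x, x ∈ Z ↔ x ∈ H ∧ x ^ 2 = 1) ∧
      ∀ h ∈ H, ∀ z ∈ Z, h * z * h⁻¹ ∈ Z := by
  haveI : Fact (Nat.Prime 2) := ⟨Nat.prime_two⟩
  haveI : (Cfsg.pCore 2 H).Normal := Grp.pCore_isNormal
  set R := (Cfsg.pCore 2 H).map H.subtype
  have hRn : ∀ h ∈ H, ∀ r ∈ R, h * r * h⁻¹ ∈ R := by
    rintro h hh _ ⟨r, hr, rfl⟩
    exact ⟨⟨h, hh⟩ * r * ⟨h, hh⟩⁻¹, Grp.pCore_isNormal.conj_mem r hr _, rfl⟩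
  obtain ⟨z, hzR, hz2, hzc⟩ := exists_involution (Grp.pCore_isPGroup.map _ : IsPGroup 2 R)
    (fun e => hO ((map_eq_bot_iff_of_injective _ H.subtype_injective).1 e))
  have hzH : z ∈ H := map_subtype_le _ hzR
  have hall : ∀ t ∈ H, orderOf t = 2 → t ∈ R ∧ ∀ r ∈ R, Commute r t := by
    intro t ht ht2
    obtain ⟨g, hg⟩ := isConj_iff.1 (Invol.isConj_involutions hH hz2 ht2)
    have hgH : g ∈ H := mem_of_conj hH hzH hz2 (by rw [hg]; exact ht)
    refine ⟨hg ▸ hRn g hgH z hzR, fun r hr => ?_⟩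
    have h := (hzc _ (hRn g⁻¹ (inv_mem hgH) r hr)).map (MulAut.conj g).toMonoidHom
    simpa [← hg, mul_assoc] using h
  have hcomm : ∀ x y : G, x ∈ H → x ^ 2 = 1 → y ∈ H → y ^ 2 = 1 → Commute x y := by
    intro x y hx hx2 hy hy2
    by_cases hx1 : x = 1
    · rw [hx1]; exact Commute.one_left y
    by_cases hy1 : y = 1
    · rw [hy1]; exact Commute.one_right x
    exact (hall y hy (orderOf_eq_prime hy2 hy1)).2 x (hall x hx (orderOf_eq_prime hx2 hx1)).1
  refine ⟨{ carrier := {x | x ∈ H ∧ x ^ 2 = 1}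
            one_mem' := ⟨one_mem H, one_pow 2⟩
            mul_mem' := fun {x y} hx hy => ⟨mul_mem hx.1 hy.1, by
              rw [(hcomm x y hx.1 hx.2 hy.1 hy.2).mul_pow, hx.2, hy.2, one_mul]⟩
            inv_mem' := fun {x} hx => ⟨inv_mem hx.1, by rw [inv_pow, hx.2, inv_one]⟩ },
    ⟨⟨⟨fun a b => Subtype.ext (hcomm a b a.2.1 a.2.2 b.2.1 b.2.2).eq⟩⟩, fun a ha => ha.2⟩,
    fun x => Iff.rfl, fun h hh x hx => ⟨mul_mem (mul_mem hh hx.1) (inv_mem hh), ?_⟩⟩
  rw [conj_pow, hx.2, mul_one, mul_inv_cancel]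

/-- The configuration left when `H` has a normal 2-subgroup. -/
theorem false_of_core_ne_bot (hG : Hyp p G) (hH : Cfsg.IsStronglyEmbedded H)
    (hE : Cfsg.IsElementaryAbelian 2 E) (h4 : 4 ≤ Nat.card E) (hEH : E ≤ H)
    {Z : Subgroup G} (hZi : ∀ x, x ∈ Z ↔ x ∈ H ∧ x ^ 2 = 1)
    (hZn : ∀ h ∈ H, ∀ z ∈ Z, h * z * h⁻¹ ∈ Z)
    {P : Subgroup G} (hPH : P ≤ H) (hP : Nat.card P = p ^ (Nat.card H).factorization p)
    {g : G} (hgH : g ∉ H) (hgP : g ∈ normalizer (P : Set G))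
    (hR : IsPGroup p ↥(zpowers g ⊔ P : Subgroup G)) : False := by
  haveI := Fact.mk hG.prime
  haveI : Fact (Nat.Prime 2) := ⟨Nat.prime_two⟩
  have hPp : IsPGroup p P := IsPGroup.of_card hP
  have hEZ : E ≤ Z := fun e he => (hZi e).2 ⟨hEH he, hE.2 e he⟩
  have hZH : Z ≤ H := fun x hx => ((hZi x).1 hx).1
  have hZ4 : 4 ≤ Nat.card Z := h4.trans (card_le_of_le hEZ)
  have hinv : ∀ x, x ∈ Z → x ≠ 1 → orderOf x = 2 := fun x hx hx1 =>
    orderOf_eq_prime ((hZi x).1 hx).2 hx1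
  have hinv' : ∀ x ∈ H, orderOf x = 2 → x ∈ Z := fun x hx hx2 =>
    (hZi x).2 ⟨hx, by rw [← hx2]; exact pow_orderOf_eq_one x⟩
  -- a swapper for every point fixed by a Sylow subgroup
  have hswap : ∀ Q : Subgroup G, Q ≤ H → Nat.card Q = Nat.card P → ∀ w : G, w ∉ H →
      (∀ x ∈ Q, w⁻¹ * x * w ∈ H) → ∃ u : G, orderOf u = 2 ∧ u ∉ H ∧ w⁻¹ * u ∈ H ∧
        (∀ x ∈ Q, u * x * u⁻¹ ∈ Q) ∧
        (∀ s ∈ Z, s ≠ 1 → ∀ t ∈ Z, t ≠ 1 → ∃ d ∈ Q, d * s * d⁻¹ = t) := by
    intro Q hQH hQc w hw hQw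
    have hne : (QuotientGroup.mk (1 : G) : G ⧸ H) ≠ QuotientGroup.mk w := by
      rw [Ne, QuotientGroup.eq]; simpa using hw
    obtain ⟨⟨u, hu, hux⟩⟩ : Nonempty {i : G // orderOf i = 2 ∧
        i • (QuotientGroup.mk (1 : G) : G ⧸ H) = QuotientGroup.mk w} := by
      refine (Nat.card_pos_iff.1 ?_).1
      rw [Invol.card_swap_eq hH _ _ hne]
      obtain ⟨t, ht, ht2⟩ := Invol.exists_orderOf_two_mem hH.2.1
      haveI : Nonempty {t : G // orderOf t = 2 ∧ t ∈ H} := ⟨⟨t, ht2, ht⟩⟩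
      exact Nat.card_pos
    rw [MulAction.Quotient.smul_mk, smul_eq_mul, mul_one, QuotientGroup.eq] at hux
    have hwu : w⁻¹ * u ∈ H := by simpa using inv_mem hux
    have huH : u ∉ H := fun h => hw (by simpa using mul_mem h hux)
    set D := H ⊓ H.map (MulAut.conj u).toMonoidHom
    have hQD : Q ≤ D := fun x hx => Invol.mem_inf_map_conj.2 ⟨hQH hx, by
      have := mul_mem (mul_mem hux (hQw x hx)) (inv_mem hux)
      simpa [mul_assoc] using this⟩
    obtain ⟨m, hm⟩ := IsPGroup.iff_card.1 (hG.pgroup_inf hH hE h4 hEH hu huH)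
    have hDQ : D = Q := (eq_of_le_of_card_ge hQD (by
      rw [hQc, hP, hm]
      refine Nat.pow_le_pow_right hG.prime.pos ?_
      exact (hG.prime.pow_dvd_iff_le_factorization Nat.card_pos.ne').1
        (hm ▸ card_dvd_of_le (inf_le_left : D ≤ H)))).symm
    refine ⟨u, hu, huH, hwu, fun x hx => ?_, fun s hs hs1 t ht ht1 => ?_⟩
    · rw [← hDQ] at hx ⊢
      obtain ⟨h1, h2⟩ := Invol.mem_inf_map_conj.1 hx
      refine Invol.mem_inf_map_conj.2 ⟨?_, by simpa [mul_assoc] using h1⟩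
      rw [Invol.inv_of_orderOf_two hu] at h2 ⊢
      exact h2
    · rw [← hDQ]
      exact Invol.exists_conj_inf hH hu huH (hinv s hs hs1) (hZH hs) (hinv t ht ht1) (hZH ht)
  obtain ⟨u, hu, huH, hgu, huP, htrans⟩ := hswap P hPH rfl g hgH fun x hx =>
    hPH ((mem_normalizer_iff''.1 hgP x).1 hx)
  have hPn : ∀ x ∈ P, ∀ z ∈ Z, x * z * x⁻¹ ∈ Z := fun x hx => hZn x (hPH hx)
  -- `Z` has order `p + 1`
  obtain ⟨z₀, hz₀, hz₀1⟩ : ∃ z ∈ Z, z ≠ 1 := by
    by_contra hc
    push Not at hc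
    have := Subgroup.card_le_of_le (fun x hx => mem_bot.2 (hc x hx) : Z ≤ ⊥)
    rw [Subgroup.card_bot] at this
    omega
  have hZcard : Nat.card Z = p + 1 := by
    obtain ⟨k, hk⟩ := exists_conj_orbit_card hPp z₀
    have heq : {b : G | ∃ d ∈ P, d * z₀ * d⁻¹ = b} = (Z : Set G) \ {1} := by
      ext b
      constructor
      · rintro ⟨d, hd, rfl⟩
        refine ⟨hPn d hd z₀ hz₀, fun e => hz₀1 ?_⟩
        exact conj_eq_one_iff.1 (Set.mem_singleton_iff.1 e)
      · rintro ⟨hb, hb1⟩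
        exact htrans z₀ hz₀ hz₀1 b hb hb1
    rw [heq, Set.ncard_sdiff_singleton_of_mem (one_mem Z : (1 : G) ∈ (Z : Set G)),
      ← Nat.card_coe_set_eq] at hk
    obtain ⟨n, hn⟩ := IsPGroup.iff_card.1 (fun z => ⟨1, Subtype.ext ((hZi z).1 z.2).2⟩ : IsPGroup 2 Z)
    change Nat.card Z - 1 = p ^ k at hk
    have hn2 : 2 ≤ n := by
      by_contra hlt
      have : 2 ^ n ≤ 2 ^ 1 := Nat.pow_le_pow_right two_pos (by omega)
      omega
    have := two_pow_eq_prime_pow_succ hG.prime hG.three hn2 (f := k) (by omega)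
    rw [this, pow_one] at hk
    omega
  -- a `p`-element fixing a point of `Z` fixes all of them
  have hfix : ∀ y ∈ H, IsPGroup p (zpowers y) → ∀ s ∈ Z, s ≠ 1 → Commute y s →
      ∀ z ∈ Z, Commute y z := by
    intro y hy hyp s hs hs1 hys z hz
    obtain ⟨k, hk⟩ := exists_conj_orbit_card hyp z
    by_cases hz' : z = 1 ∨ z = s
    · rcases hz' with rfl | rfl
      · exact Commute.one_right y
      · exact hys
    push Not at hz'
    have hsub : {b : G | ∃ d ∈ zpowers y, d * z * d⁻¹ = b} ⊆ (Z : Set G) \ {1, s} := by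
      rintro b ⟨d, hd, rfl⟩
      refine ⟨hZn d (zpowers_le.2 hy hd) z hz, ?_⟩
      have hds : Commute d s := by
        obtain ⟨i, rfl⟩ := mem_zpowers_iff.1 hd
        exact hys.zpow_left i
      rintro (e | e)
      · exact hz'.1 (conj_eq_one_iff.1 e)
      · refine hz'.2 (mul_left_cancel (a := d) ?_)
        rw [hds.eq, ← mul_inv_eq_iff_eq_mul]
        exact e
    have h1 := Set.ncard_le_ncard hsub
    rw [Set.ncard_sdiff (by
        rintro x (rfl | rfl)
        · exact one_mem Z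
        · exact hs), Set.ncard_pair hs1.symm, hk, ← Nat.card_coe_set_eq] at h1
    change p ^ k ≤ Nat.card Z - 2 at h1
    rcases k with _ | k
    · rw [pow_zero] at hk
      obtain ⟨b, hb⟩ := Set.ncard_eq_one.1 hk
      have h2 : z ∈ ({b} : Set G) := hb ▸ ⟨1, one_mem _, by simp⟩
      have h3 : y * z * y⁻¹ ∈ ({b} : Set G) := hb ▸ ⟨y, mem_zpowers y, rfl⟩
      exact mul_inv_eq_iff_eq_mul.1 (h3.trans h2.symm)
    · have h2 : p ≤ p ^ (k + 1) := Nat.le_self_pow k.succ_ne_zero p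
      omega
  set X := P ⊓ centralizer (Z : Set G) with hX
  have hXx : ∀ x ∈ X, ∀ z ∈ Z, Commute x z := fun x hx z hz =>
    (mem_centralizer_iff.1 hx.2 z hz).symm
  have hcompl : ∀ x ∈ X, u * x * u⁻¹ ∈ X → x = 1 := by
    intro x hx hux
    by_contra hx1
    haveI := hG.solv _ (hG.centralizer_ne_top hx1)
    have hle : centralizer ({x} : Set G) ≤ H := le_of_four hH _ hE h4
      (fun e he => mem_centralizer_singleton_iff.2 (hXx x hx e (hEZ he)).symm.eq) hEH
    have hc : Commute x (u⁻¹ * z₀ * u) := by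
      simpa [mul_assoc] using (hXx _ hux z₀ hz₀).map (MulAut.conj u⁻¹).toMonoidHom
    exact huH ((Invol.isStronglyEmbedded_iff hH.1 hH.2.1).1 hH z₀ (hZH hz₀) (hinv z₀ hz₀ hz₀1) u
      (hle (mem_centralizer_singleton_iff.2 hc.symm.eq)))
  have huu : ∀ x : G, u * (u * x * u⁻¹) * u⁻¹ = x := fun x => by
    rw [Invol.inv_of_orderOf_two hu, show u * (u * x * u) * u = (u * u) * x * (u * u) by group,
      Invol.mul_self_of_orderOf_two hu, one_mul, mul_one]
  have hPodd : ∀ x ∈ P, x * x = 1 → x = 1 := by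
    intro x hx hx2
    obtain ⟨k, hk⟩ := IsPGroup.iff_orderOf.1 hPp ⟨x, hx⟩
    rw [Subgroup.orderOf_mk] at hk
    refine orderOf_eq_one_iff.1 (Nat.eq_one_of_dvd_coprimes (Nat.Coprime.pow_left k ?_)
      (dvd_of_eq hk) (orderOf_dvd_of_pow_eq_one (by rw [pow_two, hx2])))
    exact (Nat.coprime_primes hG.prime Nat.prime_two).2 hG.two_ne
  -- the index of the centralizer of `Z` in `P`
  have hXidx : X.relIndex P = p := by
    have hPN : P ≤ normalizer (Z : Set G) := fun x hx => mem_normalizer_iff.2 fun z =>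
      ⟨hPn x hx z, fun hz => by simpa [mul_assoc] using hPn x⁻¹ (inv_mem hx) _ hz⟩
    set φ : P →* Equiv.Perm Z :=
      ((MulAut.toPerm Z).comp (normalizerMonoidHom Z)).comp (Subgroup.inclusion hPN)
    have hker : φ.ker = X.subgroupOf P := by
      ext x
      constructor
      · intro hx
        refine mem_subgroupOf.2 ⟨x.2, mem_centralizer_iff.2 fun z hz => ?_⟩
        have h := congrArg (fun σ : Equiv.Perm Z => ((σ ⟨z, hz⟩ : Z) : G)) (MonoidHom.mem_ker.1 hx)
        exact (mul_inv_eq_iff_eq_mul.1 (show (x : G) * z * (x : G)⁻¹ = z from h)).symm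
      · intro hx
        refine MonoidHom.mem_ker.2 (Equiv.ext fun z => Subtype.ext ?_)
        show (x : G) * z * (x : G)⁻¹ = z
        exact mul_inv_eq_iff_eq_mul.2 (hXx x (mem_subgroupOf.1 hx) z z.2).eq
    have hidx : X.relIndex P = Nat.card φ.range := by
      rw [relIndex, ← hker, index_ker]
    obtain ⟨k, hk⟩ := IsPGroup.iff_card.1
      (hPp.of_surjective φ.rangeRestrict φ.rangeRestrict_surjective)
    have hdvd : p ^ k ∣ (p + 1).factorial := by
      rw [← hk]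
      have h := φ.range.card_subgroup_dvd_card
      rwa [Nat.card_perm, hZcard] at h
    rcases k with _ | _ | k
    · exfalso
      rw [pow_zero, ← hidx, relIndex_eq_one] at hk
      obtain ⟨t, ht, ht'⟩ : ∃ t ∈ Z, t ∉ zpowers z₀ := ZN.exists_notMem hZ4 ((hZi z₀).1 hz₀).2
      obtain ⟨d, hd, hdt⟩ := htrans z₀ hz₀ hz₀1 t ht (fun e => ht' (e ▸ one_mem _))
      refine ht' (hdt ▸ ?_)
      rw [(hXx d (hk hd) z₀ hz₀).eq, mul_inv_cancel_right]
      exact mem_zpowers z₀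
    · rw [hidx, hk, pow_one]
    · exfalso
      have h2 : p * p ∣ (p + 1) * (p * (p - 1).factorial) := by
        rw [Nat.mul_factorial_pred hG.prime.pos.ne', ← Nat.factorial_succ]
        exact (Dvd.intro (p ^ k) (by ring)).trans hdvd
      rw [mul_left_comm] at h2
      rcases hG.prime.dvd_mul.1 (Nat.dvd_of_mul_dvd_mul_left hG.prime.pos h2) with h3 | h3
      · exact hG.prime.one_lt.ne' (Nat.dvd_one.1 ((Nat.dvd_add_right dvd_rfl).1 h3))
      · have := hG.prime.dvd_factorial.1 h3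
        have := hG.prime.pos
        omega
  have hXcard : Nat.card P = Nat.card X * p := by
    rw [← hXidx, ← relIndex_bot_left X, ← relIndex_bot_left P]
    exact (relIndex_mul_relIndex ⊥ X P bot_le inf_le_left).symm
  have hXbot : X = ⊥ := by
    by_contra hne
    set X' := X.map (MulAut.conj u).toMonoidHom
    have hX'P : X' ≤ P := by
      rintro _ ⟨x, hx, rfl⟩
      exact huP x hx.1
    have h1 : (X ⊓ X') = ⊥ := by
      refine (Subgroup.eq_bot_iff_forall _).2 ?_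
      rintro _ ⟨hx, x, hx', rfl⟩
      have := hcompl x hx' hx
      simp [this]
    have h2 : Nat.card X ≤ p := by
      rw [← Subgroup.card_map_of_injective (f := (MulAut.conj u).toMonoidHom) (MulAut.conj u).injective (K := X),
        ← relIndex_bot_left X', ← h1, inf_relIndex_right, ← hXidx]
      exact relIndex_le_of_le_right hX'P (by rw [hXidx]; exact hG.prime.pos.ne')
    obtain ⟨j, hj⟩ := IsPGroup.iff_card.1 (hPp.to_le (inf_le_left : X ≤ P))
    change Nat.card X = p ^ j at hj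
    have hj1 : j = 1 := by
      have h3 : j ≤ 1 := (Nat.pow_le_pow_iff_right hG.prime.one_lt).1 (by rw [← hj, pow_one]; exact h2)
      have h4 : j ≠ 0 := fun e => hne (card_eq_one.1 (by rw [hj, e, pow_zero]))
      omega
    have hP2 : Nat.card P = p ^ 2 := by rw [hXcard, hj, hj1, pow_one, pow_two]
    have hab := (IsPGroup.isMulCommutative_of_card_eq_prime_sq hP2).is_comm.comm
    obtain ⟨x, hx, hx1⟩ : ∃ x ∈ X, x ≠ 1 := by
      by_contra hc
      push Not at hc
      exact hne ((Subgroup.eq_bot_iff_forall _).2 hc)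
    set x' := u * x * u⁻¹ with hx'
    have hx'P : x' ∈ P := huP x hx.1
    have hxx' : Commute x x' := congrArg Subtype.val (hab ⟨x, hx.1⟩ ⟨x', hx'P⟩)
    set y := x * x' with hy
    have hy1 : y ≠ 1 := fun e => hx1 (hcompl x hx (by
      rw [show u * x * u⁻¹ = x⁻¹ from eq_inv_of_mul_eq_one_right e]; exact inv_mem hx))
    have huy : Commute u y := by
      have h : u * y * u⁻¹ = y := by
        rw [hy, show u * (x * x') * u⁻¹ = (u * x * u⁻¹) * (u * x' * u⁻¹) by group, hx', huu x]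
        exact hxx'.eq.symm
      exact mul_inv_eq_iff_eq_mul.1 h
    obtain ⟨l, hl⟩ := Invol.exists_fixed hH hu
    set s := l⁻¹ * u * l with hs
    have hs2 : orderOf s = 2 := by
      rw [hs]
      simpa using (Invol.orderOf_conj_eq l⁻¹ u).trans hu
    set y' := l⁻¹ * y * l with hy'
    have hys : Commute y' s := by
      simpa [hy', hs, mul_assoc] using huy.symm.map (MulAut.conj l⁻¹).toMonoidHom
    have hy'H : y' ∈ H := mem_of_commute hH hl hs2 hys
    have hy'p : IsPGroup p (zpowers y') := by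
      have hyp : IsPGroup p (zpowers y) :=
        hPp.to_le (zpowers_le.2 (mul_mem hx.1 hx'P))
      have h := hyp.map (MulAut.conj l⁻¹).toMonoidHom
      rw [MonoidHom.map_zpowers] at h
      rw [show y' = l⁻¹ * y * l⁻¹⁻¹ by rw [hy', inv_inv]]
      exact h
    have hall := hfix y' hy'H hy'p s (hinv' s hl hs2) (Invol.ne_one_of_orderOf_two hs2) hys
    haveI := hG.solv _ (hG.centralizer_ne_top (x := y') fun e => hy1 (by
      rw [hy'] at e
      calc y = l * (l⁻¹ * y * l) * l⁻¹ := by group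
        _ = 1 := by rw [e, mul_one, mul_inv_cancel]))
    have hle : centralizer ({y'} : Set G) ≤ H := le_of_four hH _ hE h4
      (fun e he => mem_centralizer_singleton_iff.2 (hall e (hEZ he)).symm.eq) hEH
    have hxy : Commute x y := (Commute.refl x).mul_right hxx'
    have hxl : l⁻¹ * x * l ∈ H := hle (mem_centralizer_singleton_iff.2 (by
      simpa [hy', mul_assoc] using (hxy.map (MulAut.conj l⁻¹).toMonoidHom).eq))
    set v := x' * x⁻¹ with hv
    have hvP : v ∈ P := mul_mem hx'P (inv_mem hx.1)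
    have hv1 : v ≠ 1 := fun e => hx1 (hcompl x hx (by
      rw [show u * x * u⁻¹ = x from (mul_inv_eq_one.1 e)]; exact hx))
    have hve : l⁻¹ * v * l = s * ((l⁻¹ * x * l) * s * (l⁻¹ * x * l)⁻¹) := by
      rw [hv, hx', hs, Invol.inv_of_orderOf_two hu]; group
    have hZmem : l⁻¹ * v * l ∈ Z := by
      rw [hve]
      exact mul_mem (hinv' s hl hs2) (hZn _ hxl s (hinv' s hl hs2))
    have h := ((hZi _).1 hZmem).2
    refine hv1 (hPodd v hvP ?_)
    calc v * v = l * ((l⁻¹ * v * l) ^ 2) * l⁻¹ := by rw [pow_two]; group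
      _ = 1 := by rw [h, mul_one, mul_inv_cancel]
  have hPcard : Nat.card P = p := by rw [hXcard, hXbot, Subgroup.card_bot, one_mul]
  have hgen : ∀ y ∈ P, y ≠ 1 → zpowers y = P := fun y hy hy1 =>
    eq_of_le_of_card_ge (zpowers_le.2 hy) (by
      rw [Nat.card_zpowers, hPcard]
      refine le_of_eq (((Nat.dvd_prime hG.prime).1 ?_).resolve_left ?_).symm
      · rw [← hPcard, ← Subgroup.orderOf_mk y hy]; exact orderOf_dvd_natCard _
      · exact fun e => hy1 (orderOf_eq_one_iff.1 e))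
  -- no involution commutes with a nontrivial element of `P`
  have hno : ∀ y ∈ P, y ≠ 1 → ∀ s, orderOf s = 2 → ¬ Commute y s := by
    intro y hy hy1 s hs hys
    obtain ⟨l, hl⟩ := Invol.exists_fixed hH hs
    set s' := l⁻¹ * s * l
    set y' := l⁻¹ * y * l
    have hs2 : orderOf s' = 2 := by simpa using (Invol.orderOf_conj_eq l⁻¹ s).trans hs
    have hys' : Commute y' s' := by
      simpa [y', s', mul_assoc] using hys.map (MulAut.conj l⁻¹).toMonoidHom
    have hy'H : y' ∈ H := mem_of_commute hH hl hs2 hys'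
    have hQc : Nat.card (zpowers y') = Nat.card P := by
      rw [Nat.card_zpowers, ← hgen y hy hy1, Nat.card_zpowers]
      simpa [y'] using Invol.orderOf_conj_eq l⁻¹ y
    obtain ⟨w, hw, hwy⟩ : ∃ w, w ∉ H ∧ w⁻¹ * y' * w ∈ H := by
      by_cases hlH : l ∈ H
      · refine ⟨l⁻¹ * g, fun h => hgH (by simpa using mul_mem hlH h), ?_⟩
        have : (l⁻¹ * g)⁻¹ * y' * (l⁻¹ * g) = g⁻¹ * y * g := by simp [y', mul_assoc]
        rw [this]
        exact hPH ((mem_normalizer_iff''.1 hgP y).1 hy)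
      · exact ⟨l⁻¹, fun h => hlH (by simpa using inv_mem h), by simpa [y', mul_assoc] using hPH hy⟩
    obtain ⟨-, -, -, -, -, htr⟩ := hswap (zpowers y') (zpowers_le.2 hy'H) hQc w hw fun x hx => by
      obtain ⟨i, rfl⟩ := mem_zpowers_iff.1 hx
      have := zpow_mem hwy i
      rwa [show w⁻¹ * y' * w = w⁻¹ * y' * w⁻¹⁻¹ by rw [inv_inv], conj_zpow, inv_inv] at this
    obtain ⟨t, ht, ht'⟩ := ZN.exists_notMem hZ4 ((hZi s').1 (hinv' s' hl hs2)).2
    obtain ⟨d, hd, hdt⟩ := htr s' (hinv' s' hl hs2) (Invol.ne_one_of_orderOf_two hs2) t ht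
      (fun e => ht' (e ▸ one_mem _))
    refine ht' (hdt ▸ ?_)
    obtain ⟨i, rfl⟩ := mem_zpowers_iff.1 hd
    rw [(hys'.zpow_left i).eq, mul_inv_cancel_right]
    exact mem_zpowers s'
  -- `g` centralises `P`
  obtain ⟨y, hy, hy1⟩ : ∃ y ∈ P, y ≠ 1 := by
    by_contra hc
    push Not at hc
    have := Subgroup.card_le_of_le (fun x hx => mem_bot.2 (hc x hx) : P ≤ ⊥)
    rw [Subgroup.card_bot, hPcard] at this
    have := hG.prime.one_lt
    omega
  have hgy : Commute g y := by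
    haveI := hR.isNilpotent
    haveI : (P.subgroupOf (zpowers g ⊔ P)).Normal :=
      normal_subgroupOf_iff_le_normalizer le_sup_right |>.2 (sup_le (zpowers_le.2 hgP) le_normalizer)
    have hne : P.subgroupOf (zpowers g ⊔ P) ≠ ⊥ := fun e => hy1 (by
      have : (⟨y, mem_sup_right hy⟩ : ↥(zpowers g ⊔ P : Subgroup G)) ∈ P.subgroupOf (zpowers g ⊔ P) := hy
      rw [e, mem_bot] at this
      exact congrArg Subtype.val this)
    obtain ⟨c, hc, hc1⟩ : ∃ c : ↥(zpowers g ⊔ P : Subgroup G),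
        c ∈ P.subgroupOf (zpowers g ⊔ P) ⊓ center _ ∧ c ≠ 1 := by
      by_contra hcon
      push Not at hcon
      exact Grp.inf_center_ne_bot _ hne ((Subgroup.eq_bot_iff_forall _).2 hcon)
    have hyc : y ∈ zpowers (c : G) := by
      rw [hgen c hc.1 fun e => hc1 (Subtype.ext e)]; exact hy
    obtain ⟨i, rfl⟩ := mem_zpowers_iff.1 hyc
    exact Commute.zpow_right (congrArg Subtype.val
      (mem_center_iff.1 hc.2 ⟨g, mem_sup_left (mem_zpowers g)⟩)) i
  have huy : u * y * u⁻¹ = y⁻¹ := by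
    have hz := huP y hy
    have hyz : Commute y (u * y * u⁻¹) := by
      rw [← hgen y hy hy1] at hz
      obtain ⟨i, hi⟩ := mem_zpowers_iff.1 hz
      rw [← hi]
      exact Commute.self_zpow y i
    by_contra hne
    refine hno (y * (u * y * u⁻¹)) (mul_mem hy hz) (fun e => hne (eq_inv_of_mul_eq_one_right e)) u hu ?_
    refine Commute.symm (mul_inv_eq_iff_eq_mul.1 ?_)
    calc u * (y * (u * y * u⁻¹)) * u⁻¹ = (u * y * u⁻¹) * (u * (u * y * u⁻¹) * u⁻¹) := by group
      _ = y * (u * y * u⁻¹) := by rw [huu, hyz.eq]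
  set h := g⁻¹ * u
  have hhy : h * y * h⁻¹ = y⁻¹ := by
    calc h * y * h⁻¹ = g⁻¹ * (u * y * u⁻¹) * g := by simp [h, mul_assoc]
      _ = g⁻¹ * (y⁻¹ * g) := by rw [huy, mul_assoc]
      _ = y⁻¹ := by rw [← (hgy.inv_right).eq, inv_mul_cancel_left]
  have hpow : ∀ n : ℕ, h ^ n * y * (h ^ n)⁻¹ = y ∨ h ^ n * y * (h ^ n)⁻¹ = y⁻¹ := by
    intro n
    induction n with
    | zero => simp
    | succ n ih =>
      have e : h ^ (n + 1) * y * (h ^ (n + 1))⁻¹ = h * (h ^ n * y * (h ^ n)⁻¹) * h⁻¹ := by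
        rw [pow_succ']; group
      rcases ih with h1 | h1 <;> rw [e, h1]
      · exact Or.inr hhy
      · exact Or.inl (by rw [← conj_inv, hhy, inv_inv])
  have hoddpow : ∀ n : ℕ, h ^ (2 * n + 1) * y * (h ^ (2 * n + 1))⁻¹ = y⁻¹ := by
    intro n
    induction n with
    | zero => simpa using hhy
    | succ n ih =>
      have e : h ^ (2 * (n + 1) + 1) * y * (h ^ (2 * (n + 1) + 1))⁻¹ =
          h * (h * (h ^ (2 * n + 1) * y * (h ^ (2 * n + 1))⁻¹) * h⁻¹) * h⁻¹ := by
        rw [show 2 * (n + 1) + 1 = 1 + (1 + (2 * n + 1)) by ring, pow_add, pow_add, pow_one]; group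
      rw [e, ih, ← conj_inv, hhy, inv_inv, hhy]
  rcases Nat.even_or_odd (orderOf h) with ⟨m, hm⟩ | ⟨m, hm⟩
  · have hm0 : m ≠ 0 := fun e => (orderOf_pos h).ne' (by rw [hm, e])
    set t := h ^ m with ht
    have ht2 : orderOf t = 2 := by
      rw [ht, orderOf_pow_of_dvd hm0 ⟨2, by omega⟩, hm, ← two_mul, Nat.mul_div_cancel _ (by omega)]
    have htH : t ∈ H := pow_mem hgu m
    have htZ : t ∈ Z := hinv' t htH ht2
    have hcZ : t * y * t⁻¹ * y⁻¹ ∈ Z := by
      have := mul_mem htZ (hPn y hy t⁻¹ (inv_mem htZ))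
      simpa [mul_assoc] using this
    have hcP : t * y * t⁻¹ * y⁻¹ ∈ P := by
      refine mul_mem ?_ (inv_mem hy)
      rcases hpow m with e | e <;> rw [ht, e]
      · exact hy
      · exact inv_mem hy
    have hc1 := hPodd _ hcP (by rw [← pow_two]; exact ((hZi _).1 hcZ).2)
    exact hno y hy hy1 t ht2 (Commute.symm (mul_inv_eq_iff_eq_mul.1 (mul_inv_eq_one.1 hc1)))
  · have h1 := hoddpow m
    rw [← hm, pow_orderOf_eq_one, one_mul, inv_one, mul_one] at h1
    exact hy1 (hPodd y hy (mul_eq_one_iff_eq_inv.2 h1))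

/-- There is no minimal counterexample. -/
theorem false_hyp (hG : Hyp p G) : False := by
  haveI := Fact.mk hG.prime
  haveI : Fact (Nat.Prime 2) := ⟨Nat.prime_two⟩
  obtain ⟨H, E, hH, hE, h4, hEH⟩ := hG.exists_embedded
  obtain ⟨P⟩ : Nonempty (Sylow p H) := Sylow.nonempty
  set Pg := (P : Subgroup H).map H.subtype with hPg
  have hPgH : Pg ≤ H := map_subtype_le _
  have hPcard : Nat.card Pg = p ^ (Nat.card H).factorization p := by
    rw [hPg, Subgroup.card_map_of_injective H.subtype_injective]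
    exact P.card_eq_multiplicity
  have hP1 : (P : Subgroup H) ≠ ⊥ := by
    intro e
    obtain ⟨a, ha, ha1⟩ : ∃ a ∈ E, a ≠ 1 := by
      obtain ⟨a, ha, ha'⟩ := ZN.exists_notMem h4 (z := 1) (one_pow 2)
      exact ⟨a, ha, fun e => ha' (by rw [e]; exact one_mem _)⟩
    obtain ⟨b, hb, hb'⟩ := ZN.exists_notMem h4 (hE.2 a ha)
    have ha2 : orderOf a = 2 := orderOf_eq_prime (hE.2 a ha) ha1
    have hb2 : orderOf b = 2 := orderOf_eq_prime (hE.2 b hb) fun e => hb' (e ▸ one_mem _)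
    obtain ⟨g, hg⟩ : ∃ g : G, g ∉ H := by
      by_contra hc
      push Not at hc
      exact hH.1 (top_le_iff.mp fun g _ => hc g)
    have hw : orderOf (g * a * g⁻¹) = 2 := by rw [Invol.orderOf_conj_eq, ha2]
    have hwH : g * a * g⁻¹ ∉ H := fun hm => hg (mem_of_conj hH (hEH ha) ha2 hm)
    obtain ⟨d, hd, hdst⟩ := Invol.exists_conj_inf hH hw hwH ha2 (hEH ha) hb2 (hEH hb)
    obtain ⟨k, hk⟩ := IsPGroup.iff_card.1 (hG.pgroup_inf hH hE h4 hEH hw hwH)
    have hk0 : k ≤ (Nat.card H).factorization p := (hG.prime.pow_dvd_iff_le_factorization Nat.card_pos.ne').1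
      (hk ▸ card_dvd_of_le inf_le_left)
    have h0 := P.card_eq_multiplicity
    rw [e, Subgroup.card_bot] at h0
    have hk1 : p ^ k = 1 := le_antisymm (h0 ▸ Nat.pow_le_pow_right hG.prime.pos hk0) (pow_pos hG.prime.pos k)
    have hd1 : d = 1 := by
      have h1 := Subgroup.card_eq_one.1 (hk.trans hk1)
      rwa [h1, mem_bot] at hd
    rw [hd1, one_mul, inv_one, mul_one] at hdst
    exact hb' (hdst ▸ mem_zpowers a)
  obtain ⟨P', hP'⟩ := (P.2.map H.subtype).exists_le_sylow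
  have hlt : Pg < P' := lt_of_le_of_ne hP' fun e => hG.sylow_not_le hH P' (e ▸ hPgH)
  haveI := P'.2.isNilpotent
  have hlt' : Pg.subgroupOf (P' : Subgroup G) < ⊤ :=
    lt_top_iff_ne_top.mpr fun e => hlt.not_ge (Subgroup.subgroupOf_eq_top.mp e)
  obtain ⟨⟨g, hgP'⟩, hgn, hgP⟩ :=
    SetLike.exists_of_lt (Group.normalizerCondition_of_isNilpotent (Pg.subgroupOf (P' : Subgroup G)) hlt')
  rw [← Subgroup.subgroupOf_normalizer_eq hlt.le, mem_subgroupOf] at hgn
  have hR : IsPGroup p ↥(zpowers g ⊔ Pg : Subgroup G) :=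
    P'.2.to_le (sup_le (zpowers_le.2 hgP') hlt.le)
  have hgH : g ∉ H := by
    intro hg
    have h1 := P.3 (hR.comap_of_injective H.subtype H.subtype_injective) (fun x hx => mem_sup_right (mem_map_of_mem _ hx))
    refine hgP (mem_subgroupOf.2 ⟨⟨g, hg⟩, ?_, rfl⟩)
    rw [← h1]
    exact mem_subgroupOf.2 (mem_sup_left (mem_zpowers g))
  by_cases hO : Cfsg.pCore 2 H = ⊥
  · exact hgH (hG.normalizer_le_of_core_eq_bot hH hE h4 hEH hO P hP1 hgn)
  · obtain ⟨Z, -, hZi, hZn⟩ := exists_involution_group hH hO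
    exact hG.false_of_core_ne_bot hH hE h4 hEH hZi hZn hPgH hPcard hgH hgn hR

end Hyp

end Cfsg.Agent.Block.PNilHall
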